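import Mathlib
import Cfsg.Agent.H174.JordanSum
set_option linter.all false

/-!
Existence and uniqueness of Jordan types of nilpotent maps.
-/

set_option autoImplicit false

namespace Cfsg.Agent.H174

open Module Polynomial

variable {F : Type*} [Field F] {V : Type*} [AddCommGroup V] [Module F V]

/-- the monomial basis of `F[X]/(X^k)` -/
theorem exists_basis_quot (F : Type*) [Field F] (k : ℕ) :
    ∃ b : Basis (Fin k) F (F[X] ⧸ (Submodule.span F[X] {(X : F[X]) ^ k})),
      ∀ i : Fin k, (X : F[X]) • b i = if h : (i : ℕ) + 1 < k then b ⟨i + 1, h⟩ else 0 := by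
  classical
  have hm : ((X : F[X]) ^ k).Monic := Polynomial.monic_X_pow k
  let b₀ : Basis (Fin k) F (AdjoinRoot ((X : F[X]) ^ k)) :=
    (AdjoinRoot.powerBasis' hm).basis.reindex (finCongr (by
      rw [AdjoinRoot.powerBasis'_dim, Polynomial.natDegree_X_pow]))
  have hb₀ : ∀ i : Fin k, b₀ i = AdjoinRoot.mk ((X : F[X]) ^ k) ((X : F[X]) ^ (i : ℕ)) := by
    intro i
    simp only [b₀, Basis.reindex_apply, PowerBasis.basis_eq_pow, AdjoinRoot.powerBasis'_gen, map_pow,
      AdjoinRoot.mk_X]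
    rfl
  let b₁ : Basis (Fin k) F (F[X] ⧸ (Submodule.span F[X] {(X : F[X]) ^ k})) := b₀
  have hb₁ : ∀ i : Fin k, b₁ i = Submodule.Quotient.mk ((X : F[X]) ^ (i : ℕ)) := hb₀
  refine ⟨b₁, ?_⟩
  intro i
  rw [hb₁, ← Submodule.Quotient.mk_smul, smul_eq_mul, ← pow_succ']
  split_ifs with h
  · rw [hb₁]
  · have h2 : (i : ℕ) + 1 = k := by omega
    rw [h2, Submodule.Quotient.mk_eq_zero]
    exact Submodule.mem_span_singleton_self _

theorem IsJT.filter_pos {N : V →ₗ[F] V} {s : Multiset ℕ} (h : IsJT N s) :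
    IsJT N (s.filter (fun j => 0 < j)) := by
  classical
  obtain ⟨ι, _, d, b, hb, rfl⟩ := h
  let e : ((k : {k : ι // 0 < d k}) × Fin (d k.1)) ≃ ((k : ι) × Fin (d k)) :=
    { toFun := fun p => ⟨p.1.1, p.2⟩
      invFun := fun p => ⟨⟨p.1, lt_of_le_of_lt (Nat.zero_le _) p.2.2⟩, p.2⟩
      left_inv := fun p => rfl
      right_inv := fun p => rfl }
  refine ⟨{k : ι // 0 < d k}, inferInstance, fun k => d k.1, b.reindex e.symm, ?_, ?_⟩
  · intro k i
    rw [Basis.reindex_apply, Equiv.symm_symm]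
    change N (b ⟨k.1, i⟩) = _
    rw [hb]
    split_ifs with h
    · rw [Basis.reindex_apply, Equiv.symm_symm]
      rfl
    · rfl
  · rw [Multiset.filter_map]
    exact Finset.univ_val_map_subtype_restrict d (fun k => 0 < d k)

/-- **Jordan normal form of a nilpotent map** -/
theorem exists_isJT [FiniteDimensional F V] {N : V →ₗ[F] V} (hN : IsNilpotent N) :
    ∃ s : Multiset ℕ, (∀ j ∈ s, 0 < j) ∧ IsJT N s := by
  classical
  obtain ⟨m, hm⟩ := hN
  have htor : Module.IsTorsion' (Module.AEval' N) (Submonoid.powers (X : F[X])) := by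
    rw [Submodule.isTorsion'_powers_iff]
    intro x
    refine ⟨m, ?_⟩
    obtain ⟨y, rfl⟩ := (Module.AEval'.of N).surjective x
    rw [Module.AEval'.X_pow_smul_of, hm, zero_smul, map_zero]
  obtain ⟨n, k, ⟨φ⟩⟩ := Module.torsion_by_prime_power_decomposition (Polynomial.irreducible_X (R := F)) htor
  choose B hB using fun i : Fin n => exists_basis_quot F (k i)
  let φ' : Module.AEval' N ≃ₗ[F[X]] (∀ i : Fin n, F[X] ⧸ (Submodule.span F[X] {(X : F[X]) ^ (k i)})) :=
    φ.trans (DirectSum.linearEquivFunOnFintype F[X] (Fin n)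
      (fun i => F[X] ⧸ (Submodule.span F[X] {(X : F[X]) ^ (k i)})))
  let ψ : V ≃ₗ[F] (∀ i : Fin n, F[X] ⧸ (Submodule.span F[X] {(X : F[X]) ^ (k i)})) :=
    (Module.AEval'.of N).trans (φ'.restrictScalars F)
  have hψ : ∀ v, ψ (N v) = (X : F[X]) • ψ v := by
    intro v
    change φ' (Module.AEval'.of N (N v)) = _
    rw [← Module.AEval'.X_smul_of, map_smul]
    rfl
  let b : Basis ((i : Fin n) × Fin (k i)) F V := (Pi.basis B).map ψ.symm
  have hb : ∀ i j, ψ (b ⟨i, j⟩) = Pi.single i (B i j) := by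
    intro i j
    simp only [b, Basis.map_apply, LinearEquiv.apply_symm_apply, Pi.basis_apply]
  have hJB : IsJB N b := by
    intro i j
    apply ψ.injective
    rw [hψ, hb, ← Pi.single_smul, hB]
    split_ifs with h
    · rw [hb]
    · rw [Pi.single_zero, map_zero]
  exact ⟨_, fun j hj => (Multiset.mem_filter.1 hj).2, IsJT.filter_pos ⟨Fin n, inferInstance, k, b, hJB, rfl⟩⟩

theorem IsJT.finrank_eq [FiniteDimensional F V] {N : V →ₗ[F] V} {s : Multiset ℕ} (h : IsJT N s) :
    finrank F V = s.sum := by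
  classical
  obtain ⟨ι, _, d, b, hb, rfl⟩ := h
  rw [finrank_eq_card_basis b, Fintype.card_sigma]
  simp only [Fintype.card_fin]
  rfl

theorem IsJT.count_eq [FiniteDimensional F V] {N : V →ₗ[F] V} {s : Multiset ℕ} (h : IsJT N s) (j : ℕ) :
    finrank F (LinearMap.range (N ^ j)) + finrank F (LinearMap.range (N ^ (j + 2))) =
      2 * finrank F (LinearMap.range (N ^ (j + 1))) + s.count (j + 1) := by
  classical
  obtain ⟨ι, _, d, b, hb, rfl⟩ := h
  rw [hb.card_eq, Multiset.count_map, Finset.card_def, Finset.filter_val]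
  simp only [eq_comm]

/-- uniqueness of the Jordan type -/
theorem IsJT.unique [FiniteDimensional F V] {N : V →ₗ[F] V} {s s' : Multiset ℕ} (h : IsJT N s)
    (h' : IsJT N s') (hs : ∀ j ∈ s, 0 < j) (hs' : ∀ j ∈ s', 0 < j) : s = s' := by
  ext j
  rcases Nat.eq_zero_or_pos j with rfl | hj
  · rw [Multiset.count_eq_zero.2 (fun h => (hs 0 h).false),
      Multiset.count_eq_zero.2 (fun h => (hs' 0 h).false)]
  · obtain ⟨i, rfl⟩ : ∃ i, j = i + 1 := ⟨j - 1, by omega⟩
    have h1 := h.count_eq i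
    have h2 := h'.count_eq i
    omega

/-- the Jordan type is invariant under conjugation -/
theorem IsJT.conj {V' : Type*} [AddCommGroup V'] [Module F V'] {N : V →ₗ[F] V} {N' : V' →ₗ[F] V'}
    {s : Multiset ℕ} (h : IsJT N s) (e : V ≃ₗ[F] V') (he : ∀ v, e (N v) = N' (e v)) : IsJT N' s := by
  obtain ⟨ι, _, d, b, hb, rfl⟩ := h
  refine ⟨ι, inferInstance, d, b.map e, ?_, rfl⟩
  intro k i
  rw [Basis.map_apply, ← he, hb k i]
  split_ifs with h
  · rw [Basis.map_apply]
  · rw [map_zero]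

/-- maps of the same Jordan type are conjugate -/
theorem IsJT.exists_equiv {V' : Type*} [AddCommGroup V'] [Module F V'] {N : V →ₗ[F] V} {N' : V' →ₗ[F] V'}
    {s : Multiset ℕ} (h : IsJT N s) (h' : IsJT N' s) : ∃ e : V ≃ₗ[F] V', ∀ v, e (N v) = N' (e v) := by
  obtain ⟨ι, _, d, b, hb, rfl⟩ := h
  obtain ⟨b', hb'⟩ := h'.exists_basis
  refine ⟨b.equiv b' (Equiv.refl _), fun v => ?_⟩
  have h1 : (b.equiv b' (Equiv.refl _)).toLinearMap.comp N = N'.comp (b.equiv b' (Equiv.refl _)).toLinearMap := by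
    apply b.ext
    rintro ⟨k, i⟩
    rw [LinearMap.comp_apply, LinearMap.comp_apply, hb k i, LinearEquiv.coe_coe, Basis.equiv_apply,
      Equiv.refl_apply, hb' k i]
    split_ifs with h
    · rw [Basis.equiv_apply]; rfl
    · rw [map_zero]
  exact LinearMap.congr_fun h1 v

/-- `N ^ m = 0` iff all blocks have size at most `m` -/
theorem IsJT.pow_eq_zero_iff {N : V →ₗ[F] V} {s : Multiset ℕ} (h : IsJT N s) (m : ℕ) :
    N ^ m = 0 ↔ ∀ j ∈ s, j ≤ m := by
  classical
  obtain ⟨ι, _, d, b, hb, rfl⟩ := h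
  constructor
  · intro h0 j hj
    obtain ⟨k, _, rfl⟩ := Multiset.mem_map.1 hj
    by_contra hk
    have h1 := hb.pow_apply m k ⟨0, by omega⟩
    rw [h0, dif_pos (by simpa using hk)] at h1
    exact b.ne_zero _ h1.symm
  · intro h0
    apply b.ext
    rintro ⟨k, i⟩
    have := h0 (d k) (Multiset.mem_map_of_mem _ (Finset.mem_univ_val k))
    rw [hb.pow_apply, dif_neg (by omega)]
    rfl

/-- every multiset of sizes is the Jordan type of a nilpotent map -/
theorem exists_nilpotent (F : Type*) [Field F] (s : Multiset ℕ) {n : ℕ} (hs : s.sum = n) :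
    ∃ N : (Fin n → F) →ₗ[F] (Fin n → F), IsJT N s := by
  classical
  obtain ⟨l, rfl⟩ : ∃ l : List ℕ, (l : Multiset ℕ) = s := Quot.exists_rep s
  let d : Fin l.length → ℕ := l.get
  have hd : Finset.univ.val.map d = (l : Multiset ℕ) := by
    rw [Fin.univ_val_map]
    congr 1
    exact List.ofFn_get l
  have hcard : Fintype.card ((k : Fin l.length) × Fin (d k)) = n := by
    rw [← hs, ← hd, Fintype.card_sigma]
    simp only [Fintype.card_fin]
    rfl
  let b : Basis ((k : Fin l.length) × Fin (d k)) F (Fin n → F) :=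
    (Pi.basisFun F (Fin n)).reindex (Fintype.equivFinOfCardEq hcard).symm
  refine ⟨b.constr F (fun p => if h : (p.2 : ℕ) + 1 < d p.1 then b ⟨p.1, ⟨p.2 + 1, h⟩⟩ else 0),
    Fin l.length, inferInstance, d, b, ?_, hd⟩
  intro k i
  rw [Basis.constr_basis]

end Cfsg.Agent.H174
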