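import Mathlib
import Cfsg.Prelude.Def_JordanBlocks
import Cfsg.Agent.H174.JordanSum
set_option linter.all false

/-!
`jordanTypeMatrix` and Jordan bases.
-/

set_option autoImplicit false

namespace Cfsg.Agent.H174

open Module

variable {F : Type*} [Field F] {V : Type*} [AddCommGroup V] [Module F V]

theorem sum_jordan {t : ℕ} (d : Fin t → ℕ) (c : ((k : Fin t) × Fin (d k)) → V) (k : Fin t)
    (i : Fin (d k)) : ∑ q, Cfsg.jordanTypeMatrix d F q ⟨k, i⟩ • c q =
      c ⟨k, i⟩ + if h : (i : ℕ) + 1 < d k then c ⟨k, ⟨i + 1, h⟩⟩ else 0 := by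
  classical
  rw [Fintype.sum_sigma, Finset.sum_eq_single k]
  · have h1 : ∀ j : Fin (d k), Cfsg.jordanTypeMatrix d F ⟨k, j⟩ ⟨k, i⟩ =
        (if j = i then 1 else 0) + (if (j : ℕ) = (i : ℕ) + 1 then 1 else 0) := by
      intro j
      simp only [Cfsg.jordanTypeMatrix, Matrix.blockDiagonal'_apply_eq, Cfsg.jordanBlock, Matrix.of_apply]
      by_cases h : j = i
      · subst h
        simp
      · rw [if_neg (fun h' => h (Fin.ext h')), if_neg h, zero_add]
    simp_rw [h1, add_smul]
    rw [Finset.sum_add_distrib]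
    congr 1
    · simp
    · split_ifs with h
      · rw [Finset.sum_eq_single ⟨i + 1, h⟩]
        · simp
        · intro j _ hj
          rw [if_neg, zero_smul]
          intro h'
          exact hj (Fin.ext h')
        · intro h; exact absurd (Finset.mem_univ _) h
      · refine Finset.sum_eq_zero fun j _ => ?_
        rw [if_neg, zero_smul]
        intro h'
        exact h (h' ▸ j.2)
  · intro l _ hl
    refine Finset.sum_eq_zero fun j _ => ?_
    simp only [Cfsg.jordanTypeMatrix]
    rw [Matrix.blockDiagonal'_apply_ne _ _ _ hl, zero_smul]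
  · intro h; exact absurd (Finset.mem_univ _) h

/-- the matrix of `u` in a Jordan basis of `u - 1` -/
theorem toMatrix_of_isJB {t : ℕ} {d : Fin t → ℕ} {u : V →ₗ[F] V}
    {b : Basis ((k : Fin t) × Fin (d k)) F V} (hb : IsJB (u - LinearMap.id) b) :
    LinearMap.toMatrix b b u = Cfsg.jordanTypeMatrix d F := by
  classical
  ext p ⟨k, i⟩
  rw [LinearMap.toMatrix_apply]
  have h1 := hb k i
  have h2 : u (b ⟨k, i⟩) = ∑ q, Cfsg.jordanTypeMatrix d F q ⟨k, i⟩ • b q := by
    rw [sum_jordan, ← h1]
    simp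
  rw [h2, Basis.repr_sum_self]

/-- a matrix conjugate to `jordanTypeMatrix d` has a Jordan basis of type `d` -/
theorem exists_isJB_of_isConj {n : Type*} [Fintype n] [DecidableEq n] {t : ℕ} {d : Fin t → ℕ}
    (e : ((k : Fin t) × Fin (d k)) ≃ n) {A : Matrix n n F}
    (h : IsConj (Matrix.reindex e e (Cfsg.jordanTypeMatrix d F)) A) :
    ∃ b : Basis ((k : Fin t) × Fin (d k)) F (n → F), IsJB (Matrix.toLin' A - LinearMap.id) b := by
  classical
  obtain ⟨P, hP⟩ := h
  let ψ : (n → F) ≃ₗ[F] (n → F) := Matrix.toLin'OfInv (M := ((P⁻¹ : (Matrix n n F)ˣ) : Matrix n n F))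
    (M' := (P : Matrix n n F)) (by simp) (by simp)
  let b := ((Pi.basisFun F n).reindex e.symm).map ψ
  have hb : ∀ p, b p = (P : Matrix n n F).mulVec (Pi.single (e p) 1) := by
    intro p
    simp only [b, Basis.map_apply, Basis.reindex_apply, Equiv.symm_symm, Pi.basisFun_apply]
    rfl
  refine ⟨b, ?_⟩
  intro k i
  have h1 : A.mulVec (b ⟨k, i⟩) = ∑ q, Cfsg.jordanTypeMatrix d F q ⟨k, i⟩ • b q := by
    rw [hb, Matrix.mulVec_mulVec]
    have h2 : A * (P : Matrix n n F) = (P : Matrix n n F) * Matrix.reindex e e (Cfsg.jordanTypeMatrix d F) :=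
      hP.symm
    rw [h2, ← Matrix.mulVec_mulVec]
    have h3 : (Matrix.reindex e e (Cfsg.jordanTypeMatrix d F)).mulVec (Pi.single (e ⟨k, i⟩) 1) =
        ∑ q, Cfsg.jordanTypeMatrix d F q ⟨k, i⟩ • (Pi.single (e q) (1 : F) : n → F) := by
      ext a
      rw [Matrix.mulVec_single_one]
      simp only [Matrix.reindex_apply, Matrix.col_apply, Matrix.submatrix_apply, e.symm_apply_apply,
        Finset.sum_apply, Pi.smul_apply, smul_eq_mul]
      rw [Finset.sum_eq_single (e.symm a)]
      · simp
      · intro q _ hq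
        rw [Pi.single_eq_of_ne, mul_zero]
        rintro rfl
        exact hq (e.symm_apply_apply q).symm
      · intro h; exact absurd (Finset.mem_univ _) h
    rw [h3, Matrix.mulVec_sum]
    refine Finset.sum_congr rfl fun q _ => ?_
    rw [Matrix.mulVec_smul, hb]
  rw [LinearMap.sub_apply, Matrix.toLin'_apply, h1, sum_jordan, LinearMap.id_apply, add_sub_cancel_left]

end Cfsg.Agent.H174
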