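import Mathlib
import Cfsg.Agent.ClassicalGeometry.QuadPlusBasic
import Cfsg.Agent.S2616
import Cfsg.Agent.S0289
import Cfsg.Agent.S0290
set_option linter.all false

/-!
Quadratic forms over `F_2` polarizing to the polar form of `Σ x_i y_i`.
-/

set_option autoImplicit false

namespace Cfsg.Agent.H174

open Module Cfsg.Agent.ClassicalGeometry.QuadPlusBasic

/-- two quadratic forms agreeing on a basis together with their polar forms are equal -/
theorem quad_ext {F V ι : Type*} [Field F] [AddCommGroup V] [Module F V] (b : Basis ι F V)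
    {Q Q' : QuadraticForm F V} (h1 : ∀ i, Q (b i) = Q' (b i))
    (h2 : ∀ i j, QuadraticMap.polar Q (b i) (b j) = QuadraticMap.polar Q' (b i) (b j)) : Q = Q' := by
  have h3 : QuadraticMap.polarBilin Q = QuadraticMap.polarBilin Q' :=
    LinearMap.BilinForm.ext_basis b fun i j => h2 i j
  have h4 : ∀ u v, QuadraticMap.polar Q u v = QuadraticMap.polar Q' u v := fun u v =>
    LinearMap.congr_fun (LinearMap.congr_fun h3 u) v
  ext v
  refine Submodule.span_induction (p := fun v _ => Q v = Q' v) ?_ ?_ ?_ ?_ (b.mem_span v)
  · rintro _ ⟨i, rfl⟩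
    exact h1 i
  · rw [QuadraticMap.map_zero, QuadraticMap.map_zero]
  · intro x y _ _ hx hy
    have h5 := h4 x y
    rw [QuadraticMap.polar, QuadraticMap.polar, hx, hy] at h5
    linear_combination h5
  · intro a x _ hx
    rw [QuadraticMap.map_smul, QuadraticMap.map_smul, hx]

/-- the standard plus form as a quadratic form -/
def plusQ (m : ℕ) (F : Type*) [Field F] : QuadraticForm F (Fin m ⊕ Fin m → F) where
  toFun := Cfsg.quadFormPlus m F
  toFun_smul a v := by rw [quadFormPlus_smul, smul_eq_mul]
  exists_companion' := ⟨polarForm m F, fun u v => quadFormPlus_add m F u v⟩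

theorem plusQ_apply (m : ℕ) (F : Type*) [Field F] (v : Fin m ⊕ Fin m → F) :
    plusQ m F v = Cfsg.quadFormPlus m F v := rfl

theorem polar_plusQ (m : ℕ) (F : Type*) [Field F] (u v : Fin m ⊕ Fin m → F) :
    QuadraticMap.polar (plusQ m F) u v = polarForm m F u v := by
  rw [QuadraticMap.polar, plusQ_apply, plusQ_apply, plusQ_apply, quadFormPlus_add]
  ring

/-- polar form of the minus form -/
def minusPolar (m : ℕ) (F : Type*) [Field F] (a b : F) :
    LinearMap.BilinForm F ((Fin m ⊕ Fin m) ⊕ Fin 2 → F) :=
  LinearMap.mk₂ F (fun u v => (∑ i : Fin m, (u (.inl (.inl i)) * v (.inl (.inr i)) +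
      u (.inl (.inr i)) * v (.inl (.inl i)))) + (2 * u (.inr 0) * v (.inr 0) +
      a * (u (.inr 0) * v (.inr 1) + u (.inr 1) * v (.inr 0)) + 2 * b * u (.inr 1) * v (.inr 1)))
    (by
      intro u u' v
      have : ∀ i, (u + u') i = u i + u' i := fun i => rfl
      simp only [this, add_mul, Finset.sum_add_distrib]; ring)
    (by
      intro c u v
      have : ∀ i, (c • u) i = c * u i := fun i => rfl
      simp only [this, smul_eq_mul, Finset.sum_add_distrib, mul_assoc, ← Finset.mul_sum]; ring)
    (by
      intro u v v'
      have : ∀ i, (v + v') i = v i + v' i := fun i => rfl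
      simp only [this, mul_add, Finset.sum_add_distrib]; ring)
    (by
      intro c u v
      have : ∀ i, (c • v) i = c * v i := fun i => rfl
      simp only [this, smul_eq_mul, Finset.sum_add_distrib, mul_left_comm _ c, ← Finset.mul_sum]; ring)

/-- the standard minus form as a quadratic form -/
def minusQ (m : ℕ) (F : Type*) [Field F] (a b : F) : QuadraticForm F ((Fin m ⊕ Fin m) ⊕ Fin 2 → F) where
  toFun := Cfsg.quadFormMinus m F a b
  toFun_smul c v := by
    have : ∀ i, (c • v) i = c * v i := fun i => rfl
    simp only [Cfsg.quadFormMinus, this, smul_eq_mul, mul_add, Finset.mul_sum]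
    congr 1
    · exact Finset.sum_congr rfl fun i _ => by ring
    · ring
  exists_companion' := ⟨minusPolar m F a b, fun u v => by
    have : ∀ i, (u + v) i = u i + v i := fun i => rfl
    simp only [Cfsg.quadFormMinus, this, minusPolar, LinearMap.mk₂_apply]
    have h1 : ∑ i : Fin m, (u (.inl (.inl i)) + v (.inl (.inl i))) * (u (.inl (.inr i)) + v (.inl (.inr i))) =
        (∑ i : Fin m, u (.inl (.inl i)) * u (.inl (.inr i))) +
        (∑ i : Fin m, v (.inl (.inl i)) * v (.inl (.inr i))) +
        ∑ i : Fin m, (u (.inl (.inl i)) * v (.inl (.inr i)) + u (.inl (.inr i)) * v (.inl (.inl i))) := by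
      rw [← Finset.sum_add_distrib, ← Finset.sum_add_distrib]
      exact Finset.sum_congr rfl fun i _ => by ring
    rw [h1]
    ring⟩

theorem minusQ_apply (m : ℕ) (F : Type*) [Field F] (a b : F) (v : (Fin m ⊕ Fin m) ⊕ Fin 2 → F) :
    minusQ m F a b v = Cfsg.quadFormMinus m F a b v := rfl

theorem polar_minusQ (m : ℕ) (F : Type*) [Field F] (a b : F) (u v : (Fin m ⊕ Fin m) ⊕ Fin 2 → F) :
    QuadraticMap.polar (minusQ m F a b) u v = minusPolar m F a b u v := by
  have h : minusQ m F a b (u + v) = minusQ m F a b u + minusQ m F a b v + minusPolar m F a b u v := by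
    have : ∀ i, (u + v) i = u i + v i := fun i => rfl
    simp only [minusQ_apply, Cfsg.quadFormMinus, this, minusPolar, LinearMap.mk₂_apply]
    have h1 : ∑ i : Fin m, (u (.inl (.inl i)) + v (.inl (.inl i))) * (u (.inl (.inr i)) + v (.inl (.inr i))) =
        (∑ i : Fin m, u (.inl (.inl i)) * u (.inl (.inr i))) +
        (∑ i : Fin m, v (.inl (.inl i)) * v (.inl (.inr i))) +
        ∑ i : Fin m, (u (.inl (.inl i)) * v (.inl (.inr i)) + u (.inl (.inr i)) * v (.inl (.inl i))) := by
      rw [← Finset.sum_add_distrib, ← Finset.sum_add_distrib]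
      exact Finset.sum_congr rfl fun i _ => by ring
    rw [h1]
    ring
  rw [QuadraticMap.polar, h]
  ring

/-- the quadratic form dichotomy in coordinates -/
theorem exists_std {F V : Type*} [Field F] [Finite F] [AddCommGroup V] [Module F V] [FiniteDimensional F V]
    {m : ℕ} (hm : 1 ≤ m) (hV : finrank F V = 2 * m) (Q : QuadraticForm F V)
    (hQ : (QuadraticMap.polarBilin Q).Nondegenerate) :
    (∃ g : V ≃ₗ[F] (Fin m ⊕ Fin m → F), ∀ v, Q v = Cfsg.quadFormPlus m F (g v)) ∨
    (∃ (ζ : F) (g : V ≃ₗ[F] ((Fin (m - 1) ⊕ Fin (m - 1)) ⊕ Fin 2 → F)), (∀ t : F, t ^ 2 + t + ζ ≠ 0) ∧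
      ∀ v, Q v = Cfsg.quadFormMinus (m - 1) F 1 ζ (g v)) := by
  classical
  rcases Cfsg.Agent.S2616.result hm hV Q hQ with ⟨b, h1, h2, h3⟩ | ⟨b, ζ, hζ, h1, h2, h3, h4, h5, h6, h7⟩
  · left
    refine ⟨b.equivFun, fun v => ?_⟩
    have hb : ∀ i, b.equivFun (b i) = Pi.single i 1 := by
      intro i
      ext j
      rw [Basis.equivFun_self, Pi.single_apply]
      simp [eq_comm]
    have h : Q = (plusQ m F).comp b.equivFun.toLinearMap := by
      apply quad_ext b
      · intro i
        rw [QuadraticMap.comp_apply, plusQ_apply, LinearEquiv.coe_coe, hb,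
          quadFormPlus_apply]
        rcases i with i | i
        · rw [(h1 i).1, Finset.sum_eq_zero]
          intro j _
          simp
        · rw [(h1 i).2, Finset.sum_eq_zero]
          intro j _
          simp
      · intro i j
        have h5 : QuadraticMap.polar ((plusQ m F).comp b.equivFun.toLinearMap) (b i) (b j) =
            polarForm m F (b.equivFun (b i)) (b.equivFun (b j)) := by
          rw [← polar_plusQ, QuadraticMap.polar, QuadraticMap.polar]
          simp [QuadraticMap.comp_apply]
        rw [h5, hb j]
        rcases j with j | j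
        · rw [polarForm_single_inl, Basis.equivFun_self]
          rcases i with i | i
          · rw [(h3 i j).1]; simp
          · rw [QuadraticMap.polar_comm, h2]
            by_cases hij : i = j
            · subst hij; simp
            · rw [if_neg (Ne.symm hij), if_neg (by simpa using hij)]
        · rw [polarForm_single_inr, Basis.equivFun_self]
          rcases i with i | i
          · rw [h2]
            by_cases hij : i = j
            · subst hij; simp
            · rw [if_neg hij, if_neg (by simpa using hij)]
          · rw [(h3 i j).2]; simp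
    rw [h]
    rfl
  · right
    refine ⟨ζ, b.equivFun, hζ, fun v => ?_⟩
    have h : Q = (minusQ (m - 1) F 1 ζ).comp b.equivFun.toLinearMap := by
      have hb : ∀ i, b.equivFun (b i) = Pi.single i 1 := by
        intro i
        ext j
        rw [Basis.equivFun_self, Pi.single_apply]
        simp [eq_comm]
      apply quad_ext b
      · intro i
        rw [QuadraticMap.comp_apply, minusQ_apply, LinearEquiv.coe_coe, hb, Cfsg.quadFormMinus]
        rcases i with (i | i) | i
        · rw [(h1 i).1]; simp [Pi.single_apply]
        · rw [(h1 i).2]; simp [Pi.single_apply]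
        · fin_cases i
          · simp [h5]
          · simp [h7]
      · intro i j
        have h8 : QuadraticMap.polar ((minusQ (m - 1) F 1 ζ).comp b.equivFun.toLinearMap) (b i) (b j) =
            minusPolar (m - 1) F 1 ζ (b.equivFun (b i)) (b.equivFun (b j)) := by
          rw [← polar_minusQ, QuadraticMap.polar, QuadraticMap.polar]
          simp [QuadraticMap.comp_apply]
        rw [h8, hb, hb]
        simp only [minusPolar, LinearMap.mk₂_apply]
        rcases i with (i | i) | i <;> rcases j with (j | j) | j
        · rw [(h3 i j).1]; simp [Pi.single_apply]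
        · rw [h2]; simp [Pi.single_apply, eq_comm]
        · rw [(h4 i j).1]; simp [Pi.single_apply]
        · rw [QuadraticMap.polar_comm, h2]; simp [Pi.single_apply]
        · rw [(h3 i j).2]; simp [Pi.single_apply]
        · rw [(h4 i j).2]; simp [Pi.single_apply]
        · rw [QuadraticMap.polar_comm, (h4 j i).1]; simp [Pi.single_apply]
        · rw [QuadraticMap.polar_comm, (h4 j i).2]; simp [Pi.single_apply]
        · fin_cases i <;> fin_cases j
          · simp [QuadraticMap.polar_self, h5]
          · simp [h6]
          · simp [QuadraticMap.polar_comm _ (b (Sum.inr 1)), h6]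
          · simp [QuadraticMap.polar_self, h7]
    rw [h]
    rfl

end Cfsg.Agent.H174
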