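import Mathlib
import Cfsg.Agent.H174.F2Forms
import Cfsg.Prelude.Def_Classical
set_option linter.all false

-- part: H174/CNRing
section
/-!
The algebra `R = F[s]/(h)` for a monic polynomial `h`, the functional `tau` (coefficient of
`s^(n-1)`), the quadratic form `Qh (x,y) = tau (x² + s x y + y²)` on `R × R` and its isometry
`gX (x,y) = (-y, x + s y)` with `gX + gX⁻¹ = s`.
-/

set_option autoImplicit false

namespace Cfsg.Agent.H174.CN

open Polynomial Module

/-- some isometry `g` of `(V,Q)` has `charpoly (g + g⁻¹) = p` -/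
def Rz {F V : Type*} [Field F] [AddCommGroup V] [Module F V] [Module.Finite F V] (Q : V → F)
    (p : F[X]) : Prop :=
  ∃ g : V ≃ₗ[F] V, (∀ v, Q (g v) = Q v) ∧
    ((g : V →ₗ[F] V) + (g.symm : V →ₗ[F] V)).charpoly = p

section Rz

variable {F V W : Type*} [Field F] [AddCommGroup V] [Module F V] [Module.Finite F V]
  [AddCommGroup W] [Module F W] [Module.Finite F W]

theorem Rz.congr {Q : V → F} {Q' : W → F} (e : V ≃ₗ[F] W) (he : ∀ v, Q v = Q' (e v)) {p : F[X]}
    (h : Rz Q p) : Rz Q' p := by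
  obtain ⟨g, hg, hp⟩ := h
  refine ⟨e.symm.trans (g.trans e), fun v => ?_, ?_⟩
  · have h1 := hg (e.symm v)
    rw [he, he, e.apply_symm_apply] at h1
    exact h1
  · have h1 : (((e.symm.trans (g.trans e) : W ≃ₗ[F] W) : W →ₗ[F] W) +
        ((e.symm.trans (g.trans e) : W ≃ₗ[F] W).symm : W →ₗ[F] W)) =
        e.conj ((g : V →ₗ[F] V) + (g.symm : V →ₗ[F] V)) := by
      ext v
      simp [LinearEquiv.conj_apply]
    rw [h1, LinearEquiv.charpoly_conj, hp]

theorem Rz.prod {Q : V → F} {Q' : W → F} {p p' : F[X]} (h : Rz Q p) (h' : Rz Q' p') :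
    Rz (fun x : V × W => Q x.1 + Q' x.2) (p * p') := by
  obtain ⟨g, hg, hp⟩ := h
  obtain ⟨g', hg', hp'⟩ := h'
  refine ⟨g.prodCongr g', fun v => ?_, ?_⟩
  · simp [hg, hg']
  · have h1 : (((g.prodCongr g' : (V × W) ≃ₗ[F] (V × W)) : (V × W) →ₗ[F] (V × W)) +
        ((g.prodCongr g' : (V × W) ≃ₗ[F] (V × W)).symm : (V × W) →ₗ[F] (V × W))) =
        LinearMap.prodMap ((g : V →ₗ[F] V) + (g.symm : V →ₗ[F] V))
          ((g' : W →ₗ[F] W) + (g'.symm : W →ₗ[F] W)) := by
      ext v <;> simp
    rw [h1, LinearMap.charpoly_prodMap, hp, hp']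

theorem charpoly_smul_id (c : F) :
    (c • (LinearMap.id : V →ₗ[F] V)).charpoly = (X - C c) ^ finrank F V := by
  classical
  rw [← LinearMap.charpoly_toMatrix _ (finBasis F V)]
  have h1 : LinearMap.toMatrix (finBasis F V) (finBasis F V) (c • (LinearMap.id : V →ₗ[F] V)) =
      Matrix.diagonal fun _ => c := by
    rw [map_smul, LinearMap.toMatrix_id, Matrix.smul_one_eq_diagonal]
  rw [h1, Matrix.charpoly_diagonal]
  simp

theorem Rz.one (Q : V → F) : Rz Q ((X - C 2) ^ finrank F V) := by
  refine ⟨LinearEquiv.refl F V, fun v => rfl, ?_⟩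
  rw [← charpoly_smul_id]
  congr 1
  ext v
  simp [two_smul]

theorem Rz.neg {Q : V → F} (hQ : ∀ v, Q (-v) = Q v) : Rz Q ((X + C 2) ^ finrank F V) := by
  refine ⟨LinearEquiv.neg F, fun v => by simpa using hQ v, ?_⟩
  have : (X + C 2 : F[X]) = X - C (-2) := by simp
  rw [this, ← charpoly_smul_id]
  congr 1
  ext v
  simp [two_smul]

end Rz

variable {F : Type*} [Field F] {h : F[X]} (hh : h.Monic)

/-- coefficient of `s^(n-1)` -/
noncomputable def tau : AdjoinRoot h →ₗ[F] F :=
  (Polynomial.lcoeff F (h.natDegree - 1)).comp (AdjoinRoot.modByMonicHom hh)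

theorem tau_mk (f : F[X]) : tau hh (AdjoinRoot.mk h f) = (f %ₘ h).coeff (h.natDegree - 1) := by
  rw [tau, LinearMap.comp_apply, AdjoinRoot.modByMonicHom_mk]
  rfl

theorem tau_mk_of_degree_lt {f : F[X]} (hf : f.degree < h.degree) :
    tau hh (AdjoinRoot.mk h f) = f.coeff (h.natDegree - 1) := by
  rw [tau_mk, (modByMonic_eq_self_iff hh).2 hf]

/-- the canonical representative -/
noncomputable def rep (x : AdjoinRoot h) : F[X] := AdjoinRoot.modByMonicHom hh x

theorem mk_rep (x : AdjoinRoot h) : AdjoinRoot.mk h (rep hh x) = x :=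
  AdjoinRoot.mk_leftInverse hh x

theorem degree_rep_lt (x : AdjoinRoot h) : (rep hh x).degree < h.degree := by
  rw [← mk_rep hh x, rep, AdjoinRoot.modByMonicHom_mk]
  exact degree_modByMonic_lt _ hh

theorem tau_nondeg {x : AdjoinRoot h} (hx : ∀ y, tau hh (x * y) = 0) : x = 0 := by
  by_contra hne
  have hr : rep hh x ≠ 0 := by
    intro h0
    apply hne
    rw [← mk_rep hh x, h0, map_zero]
  have hd := degree_rep_lt hh x
  have hd' : (rep hh x).natDegree < h.natDegree := natDegree_lt_natDegree hr hd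
  have h1 := hx (AdjoinRoot.mk h (X ^ (h.natDegree - 1 - (rep hh x).natDegree)))
  have h2 : x * AdjoinRoot.mk h (X ^ (h.natDegree - 1 - (rep hh x).natDegree)) =
      AdjoinRoot.mk h (rep hh x * X ^ (h.natDegree - 1 - (rep hh x).natDegree)) := by
    rw [map_mul, mk_rep]
  rw [h2, tau_mk_of_degree_lt] at h1
  · have h3 : h.natDegree - 1 = (rep hh x).natDegree + (h.natDegree - 1 - (rep hh x).natDegree) := by
      omega
    rw [h3, coeff_mul_X_pow', if_pos (by omega)] at h1
    apply hr
    rw [← leadingCoeff_eq_zero]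
    rw [leadingCoeff, ← h1]
    congr 1
    omega
  · rw [degree_eq_natDegree hh.ne_zero, degree_eq_natDegree (mul_ne_zero hr (pow_ne_zero _ X_ne_zero)),
      natDegree_mul hr (pow_ne_zero _ X_ne_zero), natDegree_X_pow]
    norm_cast
    omega

/-- multiplication by `s` -/
noncomputable def ms (h : F[X]) : AdjoinRoot h →ₗ[F] AdjoinRoot h :=
  LinearMap.mulLeft F (AdjoinRoot.root h)

theorem ms_apply (x : AdjoinRoot h) : ms h x = AdjoinRoot.root h * x := rfl

include hh in
theorem finite_adjoinRoot : Module.Finite F (AdjoinRoot h) := hh.finite_adjoinRoot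

include hh in
theorem finrank_adjoinRoot : finrank F (AdjoinRoot h) = h.natDegree := by
  rw [(AdjoinRoot.powerBasis hh.ne_zero).finrank, AdjoinRoot.powerBasis_dim]

include hh in
theorem charpoly_ms [Module.Finite F (AdjoinRoot h)] : (ms h).charpoly = h := by
  classical
  have h1 := charpoly_leftMulMatrix (AdjoinRoot.powerBasis hh.ne_zero)
  rw [AdjoinRoot.minpoly_powerBasis_gen_of_monic hh] at h1
  conv_rhs => rw [← h1]
  rw [Algebra.leftMulMatrix_apply, LinearMap.charpoly_toMatrix]
  congr 1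

/-- the quadratic form `tau (x² + s x y + y²)` on `R × R` -/
noncomputable def Qh : QuadraticForm F (AdjoinRoot h × AdjoinRoot h) where
  toFun v := tau hh (v.1 * v.1 + AdjoinRoot.root h * (v.1 * v.2) + v.2 * v.2)
  toFun_smul a v := by
    rw [Prod.smul_fst, Prod.smul_snd, ← map_smul]
    congr 1
    simp only [Algebra.smul_def, map_mul]
    ring
  exists_companion' := by
    refine ⟨LinearMap.mk₂ F (fun v w => tau hh (2 * (v.1 * w.1) +
      AdjoinRoot.root h * (v.1 * w.2 + w.1 * v.2) + 2 * (v.2 * w.2))) ?_ ?_ ?_ ?_, ?_⟩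
    · intro u v w
      rw [← map_add]
      congr 1
      simp only [Prod.fst_add, Prod.snd_add]
      ring
    · intro c v w
      rw [← map_smul]
      congr 1
      simp only [Prod.smul_fst, Prod.smul_snd]
      simp only [Algebra.smul_def]
      ring
    · intro u v w
      rw [← map_add]
      congr 1
      simp only [Prod.fst_add, Prod.snd_add]
      ring
    · intro c v w
      rw [← map_smul]
      congr 1
      simp only [Prod.smul_fst, Prod.smul_snd]
      simp only [Algebra.smul_def]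
      ring
    · intro v w
      rw [LinearMap.mk₂_apply, ← map_add, ← map_add]
      congr 1
      simp only [Prod.fst_add, Prod.snd_add]
      ring

theorem Qh_apply (v : AdjoinRoot h × AdjoinRoot h) :
    Qh hh v = tau hh (v.1 * v.1 + AdjoinRoot.root h * (v.1 * v.2) + v.2 * v.2) := rfl

theorem polar_Qh (v w : AdjoinRoot h × AdjoinRoot h) :
    QuadraticMap.polar (Qh hh) v w = tau hh (2 * (v.1 * w.1) +
      AdjoinRoot.root h * (v.1 * w.2 + w.1 * v.2) + 2 * (v.2 * w.2)) := by
  rw [QuadraticMap.polar, Qh_apply, Qh_apply, Qh_apply, ← map_sub, ← map_sub]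
  congr 1
  simp only [Prod.fst_add, Prod.snd_add]
  ring

/-- multiplication by `X` -/
noncomputable def gX (h : F[X]) : (AdjoinRoot h × AdjoinRoot h) ≃ₗ[F] (AdjoinRoot h × AdjoinRoot h) where
  toFun v := (-v.2, v.1 + AdjoinRoot.root h * v.2)
  map_add' v w := by
    ext <;> simp [mul_add] <;> ring
  map_smul' c v := by
    ext <;> simp
  invFun v := (AdjoinRoot.root h * v.1 + v.2, -v.1)
  left_inv v := by
    ext <;> simp
  right_inv v := by
    ext <;> simp

theorem gX_apply (v : AdjoinRoot h × AdjoinRoot h) :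
    gX h v = (-v.2, v.1 + AdjoinRoot.root h * v.2) := rfl

theorem gX_symm_apply (v : AdjoinRoot h × AdjoinRoot h) :
    (gX h).symm v = (AdjoinRoot.root h * v.1 + v.2, -v.1) := rfl

theorem Qh_gX (v : AdjoinRoot h × AdjoinRoot h) : Qh hh (gX h v) = Qh hh v := by
  rw [Qh_apply, Qh_apply, gX_apply]
  congr 1
  ring

theorem gX_add_symm : ((gX h : (AdjoinRoot h × AdjoinRoot h) →ₗ[F] (AdjoinRoot h × AdjoinRoot h)) +
    ((gX h).symm : (AdjoinRoot h × AdjoinRoot h) →ₗ[F] (AdjoinRoot h × AdjoinRoot h))) =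
    LinearMap.prodMap (ms h) (ms h) := by
  refine LinearMap.ext fun v => ?_
  rw [LinearMap.add_apply, LinearEquiv.coe_coe, LinearEquiv.coe_coe, gX_apply, gX_symm_apply,
    LinearMap.prodMap_apply, ms_apply, ms_apply]
  ext <;> simp

theorem rz_Qh [Module.Finite F (AdjoinRoot h)] : Rz (Qh hh) (h ^ 2) := by
  refine ⟨gX h, Qh_gX hh, ?_⟩
  rw [gX_add_symm, LinearMap.charpoly_prodMap, charpoly_ms hh, sq]

/-- `s - c` is a unit if `h(c) ≠ 0` -/
theorem isUnit_root_sub {c : F} (hc : h.eval c ≠ 0) :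
    IsUnit (AdjoinRoot.root h - algebraMap F (AdjoinRoot h) c) := by
  obtain ⟨w, hw⟩ := X_sub_C_dvd_sub_C_eval (a := c) (p := h)
  have h1 := congrArg (AdjoinRoot.mk h) hw
  rw [map_sub, AdjoinRoot.mk_self, map_mul, map_sub, AdjoinRoot.mk_X, AdjoinRoot.mk_C,
    AdjoinRoot.mk_C] at h1
  refine IsUnit.of_mul_eq_one (AdjoinRoot.mk h w * AdjoinRoot.of h (-(h.eval c)⁻¹)) ?_
  have h3 : algebraMap F (AdjoinRoot h) c = AdjoinRoot.of h c := rfl
  rw [h3, ← mul_assoc, ← h1, zero_sub, neg_mul, ← mul_neg, ← map_neg, neg_neg, ← map_mul,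
    mul_inv_cancel₀ hc, map_one]

theorem nondeg_Qh (h1 : h.eval 2 ≠ 0) (h2 : h.eval (-2) ≠ 0) {v : AdjoinRoot h × AdjoinRoot h}
    (hv : ∀ w, QuadraticMap.polar (Qh hh) v w = 0) : v = 0 := by
  set s := AdjoinRoot.root h with hs
  have h3 : 2 * v.1 + s * v.2 = 0 := by
    apply tau_nondeg hh
    intro y
    have := hv (y, 0)
    rw [polar_Qh] at this
    rw [← this]
    congr 1
    simp only [← hs]
    ring
  have h4 : s * v.1 + 2 * v.2 = 0 := by
    apply tau_nondeg hh
    intro y
    have := hv (0, y)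
    rw [polar_Qh] at this
    rw [← this]
    congr 1
    simp only [← hs]
    ring
  have u1 := isUnit_root_sub (h := h) h1
  have u2 := isUnit_root_sub (h := h) h2
  have h5 : (algebraMap F (AdjoinRoot h) 2) = 2 := map_ofNat _ 2
  have h6 : (algebraMap F (AdjoinRoot h) (-2)) = -2 := by rw [map_neg, h5]
  rw [h5, ← hs] at u1
  rw [h6, ← hs] at u2
  have u := u1.mul u2
  ext
  · have : (s - 2) * (s - -2) * v.1 = 0 := by linear_combination s * h4 - 2 * h3
    simpa using (u.mul_right_eq_zero).1 this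
  · have : (s - 2) * (s - -2) * v.2 = 0 := by linear_combination s * h3 - 2 * h4
    simpa using (u.mul_right_eq_zero).1 this

end Cfsg.Agent.H174.CN
end

-- part: H174/CNChar
section
/-!
Characteristic two: the character `psi` of `F / {w² + w}` and Gauss sums of quadratic forms.
-/

set_option autoImplicit false

namespace Cfsg.Agent.H174.CN

open Polynomial Module

variable {F : Type*} [Field F]

/-- `z` is of the form `w² + w` -/
def IsAS (z : F) : Prop := ∃ w : F, w ^ 2 + w = z

/-- the additive character of a finite field of characteristic two with kernel `{w² + w}` -/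
noncomputable def psi (z : F) : ℤ := by
  classical exact if IsAS z then 1 else -1

theorem psi_of_isAS {z : F} (h : IsAS z) : psi z = 1 := if_pos h

theorem psi_of_not_isAS {z : F} (h : ¬ IsAS z) : psi z = -1 := if_neg h

theorem psi_eq_one_iff {z : F} : psi z = 1 ↔ IsAS z := by
  by_cases h : IsAS z
  · simp [psi_of_isAS h, h]
  · simp [psi_of_not_isAS h, h]

section two

variable [CharP F 2]

theorem add_self' (a : F) : a + a = 0 := CharTwo.add_self_eq_zero a

omit [CharP F 2] in
theorem IsAS.zero : IsAS (0 : F) := ⟨0, by simp⟩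

theorem IsAS.add {a b : F} (ha : IsAS a) (hb : IsAS b) : IsAS (a + b) := by
  obtain ⟨w, rfl⟩ := ha
  obtain ⟨v, rfl⟩ := hb
  exact ⟨w + v, by rw [CharTwo.add_sq]; ring⟩

/-- the Artin–Schreier map -/
def asHom (F : Type*) [Field F] [CharP F 2] : F →+ F where
  toFun w := w ^ 2 + w
  map_zero' := by simp
  map_add' a b := by rw [CharTwo.add_sq]; ring

theorem card_ker_asHom [Finite F] : Nat.card (asHom F).ker = 2 := by
  have h1 : ((asHom F).ker : Set F) = {0, 1} := by
    ext w
    simp only [SetLike.mem_coe, AddMonoidHom.mem_ker, Set.mem_insert_iff, Set.mem_singleton_iff]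
    change w ^ 2 + w = 0 ↔ _
    constructor
    · intro h
      have : w * (w + 1) = 0 := by rw [← h]; ring
      rcases mul_eq_zero.1 this with h | h
      · exact Or.inl h
      · right
        have h2 := add_self' (1 : F)
        linear_combination h - h2
    · rintro (rfl | rfl)
      · simp
      · simp [add_self']
  have h2 : Nat.card (asHom F).ker = Set.ncard ((asHom F).ker : Set F) := rfl
  rw [h2, h1]
  exact Set.ncard_pair zero_ne_one

theorem index_range_asHom [Finite F] : (asHom F).range.index = 2 := by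
  have h1 := (asHom F).ker.card_mul_index
  have h2 := (asHom F).range.card_mul_index
  have h3 : (asHom F).ker.index = Nat.card (asHom F).range := AddSubgroup.index_ker _
  have h4 : 0 < Nat.card (asHom F).range := Nat.card_pos
  rw [h3, card_ker_asHom] at h1
  rw [← h1] at h2
  have : Nat.card (asHom F).range * (asHom F).range.index = Nat.card (asHom F).range * 2 := by
    rw [h2]; ring
  exact Nat.eq_of_mul_eq_mul_left h4 this

theorem isAS_iff_mem (z : F) : IsAS z ↔ z ∈ (asHom F).range := by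
  rw [AddMonoidHom.mem_range]
  rfl

theorem isAS_add_iff [Finite F] (a b : F) : IsAS (a + b) ↔ (IsAS a ↔ IsAS b) := by
  rw [isAS_iff_mem, isAS_iff_mem, isAS_iff_mem]
  exact AddSubgroup.add_mem_iff_of_index_two index_range_asHom

theorem psi_add [Finite F] (a b : F) : psi (a + b) = psi a * psi b := by
  have h := isAS_add_iff a b
  by_cases ha : IsAS a <;> by_cases hb : IsAS b
  · rw [psi_of_isAS ha, psi_of_isAS hb, psi_of_isAS (h.2 (by simp [ha, hb]))]; rfl
  · rw [psi_of_isAS ha, psi_of_not_isAS hb, psi_of_not_isAS (by rw [h]; simp [ha, hb])]; rfl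
  · rw [psi_of_not_isAS ha, psi_of_isAS hb, psi_of_not_isAS (by rw [h]; simp [ha, hb])]; rfl
  · rw [psi_of_not_isAS ha, psi_of_not_isAS hb, psi_of_isAS (by rw [h]; simp [ha, hb])]; rfl

theorem exists_not_isAS [Finite F] : ∃ z : F, ¬ IsAS z := by
  by_contra hc
  push Not at hc
  have h1 : (asHom F).range = ⊤ := by
    rw [eq_top_iff]
    intro z _
    exact (isAS_iff_mem z).1 (hc z)
  have h2 := index_range_asHom (F := F)
  rw [h1, AddSubgroup.index_top] at h2
  omega

theorem psi_sq [Finite F] (z : F) : psi (z ^ 2) = psi z := by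
  have h1 : IsAS (z ^ 2 + z) := ⟨z, rfl⟩
  have h2 := psi_add (z ^ 2) z
  rw [psi_of_isAS h1] at h2
  by_cases hz : IsAS z
  · rw [psi_of_isAS hz] at h2 ⊢; linarith
  · rw [psi_of_not_isAS hz] at h2 ⊢; linarith

theorem psi_zero : psi (0 : F) = 1 := psi_of_isAS IsAS.zero

/-- sum of a nontrivial `ℤ`-valued character -/
theorem sum_char_eq_zero {A : Type*} [AddGroup A] [Fintype A] (f : A → ℤ)
    (hf : ∀ a b, f (a + b) = f a * f b) {a₀ : A} (h₀ : f a₀ = -1) : ∑ a, f a = 0 := by
  have h1 : ∑ a, f a = ∑ a, f (a + a₀) := (Equiv.sum_comp (Equiv.addRight a₀) f).symm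
  simp only [hf, h₀, ← Finset.sum_mul] at h1
  linarith

theorem sum_psi_mul [Fintype F] [DecidableEq F] (z : F) :
    ∑ c : F, psi (c * z) = if z = 0 then (Fintype.card F : ℤ) else 0 := by
  split_ifs with h
  · subst h
    simp [psi_zero]
  · obtain ⟨y, hy⟩ := exists_not_isAS (F := F)
    refine sum_char_eq_zero _ (fun a b => ?_) (a₀ := y / z) ?_
    · rw [add_mul, psi_add]
    · rw [div_mul_cancel₀ _ h]
      exact psi_of_not_isAS hy

/-- sum over a linear functional -/
theorem sum_psi_linear [Finite F] {V : Type*} [AddCommGroup V] [Module F V] [Fintype V]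
    (f : V →ₗ[F] F) (hf : f ≠ 0) : ∑ v, psi (f v) = 0 := by
  obtain ⟨y, hy⟩ := exists_not_isAS (F := F)
  obtain ⟨v, hv⟩ : ∃ v, f v ≠ 0 := by
    by_contra hc
    push Not at hc
    exact hf (LinearMap.ext hc)
  refine sum_char_eq_zero _ (fun a b => ?_) (a₀ := (y / f v) • v) ?_
  · rw [map_add, psi_add]
  · rw [map_smul, smul_eq_mul, div_mul_cancel₀ _ hv]
    exact psi_of_not_isAS hy

/-- Gauss sum of a form -/
noncomputable def gsum {V : Type*} [Fintype V] (Q : V → F) : ℤ := ∑ v, psi (Q v)

omit [CharP F 2] in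
theorem gsum_congr {V W : Type*} [Fintype V] [Fintype W] {Q : V → F} {Q' : W → F} (e : V ≃ W)
    (h : ∀ v, Q v = Q' (e v)) : gsum Q = gsum Q' := by
  rw [gsum, gsum, ← Equiv.sum_comp e]
  exact Finset.sum_congr rfl fun v _ => by rw [h]

theorem gsum_prod [Finite F] {V W : Type*} [Fintype V] [Fintype W] (Q : V → F) (Q' : W → F) :
    gsum (fun x : V × W => Q x.1 + Q' x.2) = gsum Q * gsum Q' := by
  rw [gsum, gsum, gsum, Finset.sum_mul_sum, ← Finset.univ_product_univ, Finset.sum_product]
  refine Finset.sum_congr rfl fun x _ => Finset.sum_congr rfl fun y _ => ?_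
  rw [psi_add]

variable [Fintype F]

theorem gsum_plus (m : ℕ) : gsum (Cfsg.quadFormPlus m F) = (Fintype.card F : ℤ) ^ m := by
  classical
  have e : (Fin m ⊕ Fin m → F) ≃ (Fin m → F) × (Fin m → F) := Equiv.sumArrowEquivProdArrow _ _ _
  have h1 : gsum (Cfsg.quadFormPlus m F) =
      ∑ x : Fin m → F, ∑ y : Fin m → F, psi (∑ i, x i * y i) := by
    rw [gsum, ← Finset.sum_product', Finset.univ_product_univ,
      ← Equiv.sum_comp (Equiv.sumArrowEquivProdArrow (Fin m) (Fin m) F)]
    rfl
  rw [h1]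
  have h2 : ∀ x : Fin m → F, ∑ y : Fin m → F, psi (∑ i, x i * y i) =
      if x = 0 then ((Fintype.card F : ℤ)) ^ m else 0 := by
    intro x
    split_ifs with hx
    · subst hx
      simp [psi_zero]
    · have : ∑ y : Fin m → F, psi (∑ i, x i * y i) =
        ∑ y : Fin m → F, psi ((∑ i, x i • LinearMap.proj i : (Fin m → F) →ₗ[F] F) y) := by
        refine Finset.sum_congr rfl fun y _ => ?_
        simp [LinearMap.sum_apply]
      rw [this]
      apply sum_psi_linear
      intro h0
      apply hx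
      funext i
      have := LinearMap.congr_fun h0 (Pi.single i 1)
      simpa [LinearMap.sum_apply, Pi.single_apply] using this
  rw [Finset.sum_congr rfl fun x _ => h2 x]
  simp

theorem gsum_binary {a b : F} (hab : ∀ z₁ z₂ : F, z₁ ^ 2 + a * z₁ * z₂ + b * z₂ ^ 2 = 0 → z₁ = 0 ∧ z₂ = 0) :
    gsum (fun z : F × F => z.1 ^ 2 + a * z.1 * z.2 + b * z.2 ^ 2) = -(Fintype.card F : ℤ) := by
  classical
  set Q : F × F → F := fun z => z.1 ^ 2 + a * z.1 * z.2 + b * z.2 ^ 2 with hQ
  have h1 : ∑ c : F, ∑ z : F × F, psi (c * Q z) = (Fintype.card F : ℤ) := by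
    rw [Finset.sum_comm]
    have : ∀ z : F × F, ∑ c : F, psi (c * Q z) = if z = 0 then (Fintype.card F : ℤ) else 0 := by
      intro z
      rw [sum_psi_mul]
      have : Q z = 0 ↔ z = 0 := by
        constructor
        · intro h
          obtain ⟨h3, h4⟩ := hab _ _ h
          exact Prod.ext h3 h4
        · rintro rfl
          simp [hQ]
      simp [this]
    rw [Finset.sum_congr rfl fun z _ => this z]
    simp
  have h2 : ∀ c : F, c ≠ 0 → ∑ z : F × F, psi (c * Q z) = gsum Q := by
    intro c hc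
    obtain ⟨d, hd⟩ : ∃ d : F, d ^ 2 = c := by
      obtain ⟨d, hd⟩ := FiniteField.isSquare_of_char_two (CharP.ringChar_of_prime_eq_zero
        Nat.prime_two (CharP.cast_eq_zero F 2)) c
      exact ⟨d, by rw [hd, sq]⟩
    have hd0 : d ≠ 0 := by rintro rfl; simp at hd; exact hc hd.symm
    rw [gsum]
    let e : F × F ≃ F × F := Equiv.prodCongr (Equiv.mulLeft₀ d hd0) (Equiv.mulLeft₀ d hd0)
    rw [← Equiv.sum_comp e (fun z => psi (Q z))]
    refine Finset.sum_congr rfl fun z _ => ?_
    congr 1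
    change c * (z.1 ^ 2 + a * z.1 * z.2 + b * z.2 ^ 2) = (d * z.1) ^ 2 + a * (d * z.1) * (d * z.2) + b * (d * z.2) ^ 2
    rw [← hd]
    ring
  have h3 : ∑ c : F, ∑ z : F × F, psi (c * Q z) = (Fintype.card F : ℤ) ^ 2 +
      ((Fintype.card F : ℤ) - 1) * gsum Q := by
    rw [← Finset.add_sum_erase _ _ (Finset.mem_univ (0 : F)),
      Finset.sum_congr rfl fun c hc => h2 c (Finset.ne_of_mem_erase hc)]
    have h4 : (Finset.univ.erase (0 : F)).card = Fintype.card F - 1 := by
      rw [Finset.card_erase_of_mem (Finset.mem_univ _), Finset.card_univ]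
    have h5 : 1 ≤ Fintype.card F := Fintype.card_pos
    rw [Finset.sum_const, h4, nsmul_eq_mul, Nat.cast_sub h5]
    simp [psi_zero, Fintype.card_prod]
    ring
  rw [h1] at h3
  have h6 : (1 : ℤ) < Fintype.card F := by exact_mod_cast Fintype.one_lt_card
  have h7 : ((Fintype.card F : ℤ) - 1) * (gsum Q + Fintype.card F) = 0 := by
    linear_combination -h3
  rcases mul_eq_zero.1 h7 with h | h
  · omega
  · linarith

theorem gsum_minus (m : ℕ) {a b : F}
    (hab : ∀ z₁ z₂ : F, z₁ ^ 2 + a * z₁ * z₂ + b * z₂ ^ 2 = 0 → z₁ = 0 ∧ z₂ = 0) :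
    gsum (Cfsg.quadFormMinus m F a b) = -(Fintype.card F : ℤ) ^ (m + 1) := by
  have h1 := gsum_prod (Cfsg.quadFormPlus m F) (fun z : F × F => z.1 ^ 2 + a * z.1 * z.2 + b * z.2 ^ 2)
  rw [gsum_plus, gsum_binary hab] at h1
  rw [← gsum_congr ((Equiv.sumArrowEquivProdArrow (Fin m ⊕ Fin m) (Fin 2) F).trans
    (Equiv.prodCongr (Equiv.refl _) (finTwoArrowEquiv F)))] at h1
  · rw [h1]; ring
  · intro v
    rfl

end two

end Cfsg.Agent.H174.CN
end

-- part: H174/CNSign
section
/-!
Characteristic two: the Gauss sum of `Qh` is `q^n psi (h_1 / h_0)`.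
-/

set_option autoImplicit false

namespace Cfsg.Agent.H174.CN

open Polynomial Module

variable {F : Type*} [Field F] [CharP F 2]

theorem exists_sqrt [Finite F] (c : F) : ∃ d : F, d ^ 2 = c := by
  have := Fintype.ofFinite F
  obtain ⟨d, hd⟩ := FiniteField.isSquare_of_char_two (CharP.ringChar_of_prime_eq_zero
        Nat.prime_two (CharP.cast_eq_zero F 2)) c
  exact ⟨d, by rw [hd, sq]⟩

/-- even and odd part -/
theorem exists_even_odd [Finite F] (P : F[X]) : ∃ e o : F[X], P = e ^ 2 + X * o ^ 2 := by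
  induction P using Polynomial.induction_on' with
  | add p q hp hq =>
    obtain ⟨e, o, rfl⟩ := hp
    obtain ⟨e', o', rfl⟩ := hq
    refine ⟨e + e', o + o', ?_⟩
    rw [CharTwo.add_sq, CharTwo.add_sq]
    ring
  | monomial k c =>
    obtain ⟨d, rfl⟩ := exists_sqrt c
    rcases Nat.even_or_odd' k with ⟨j, rfl | rfl⟩
    · refine ⟨monomial j d, 0, ?_⟩
      rw [monomial_pow]
      simp [mul_comm]
    · refine ⟨0, monomial j d, ?_⟩
      rw [monomial_pow, X_mul_monomial]
      simp [mul_comm]

theorem coeff_one_sq (e : F[X]) : (e ^ 2).coeff 1 = 0 := by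
  rw [sq, coeff_mul, Finset.Nat.antidiagonal_succ]
  simp
  rw [mul_comm]
  exact CharTwo.add_self_eq_zero _

omit [CharP F 2] in
theorem natDegree_odd_le {P e o : F[X]} (h : P = e ^ 2 + X * o ^ 2) (ho : o ≠ 0) :
    2 * o.natDegree + 1 ≤ P.natDegree := by
  have h1 : (X * o ^ 2).natDegree = 2 * o.natDegree + 1 := by
    rw [natDegree_X_mul (pow_ne_zero _ ho), natDegree_pow]
  by_cases he : (e ^ 2).natDegree < (X * o ^ 2).natDegree
  · rw [h, natDegree_add_eq_right_of_natDegree_lt he, h1]
  · have h2 : (X * o ^ 2).natDegree < (e ^ 2).natDegree := by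
      rw [natDegree_pow] at he ⊢
      rw [h1] at he ⊢
      omega
    rw [h, natDegree_add_eq_left_of_natDegree_lt h2]
    omega

variable {h : F[X]} (hh : h.Monic)

theorem tau_sq (hn : 0 < h.natDegree) {e o : F[X]} (heo : h = e ^ 2 + X * o ^ 2) (y : AdjoinRoot h) :
    tau hh (y * y) = (tau hh (AdjoinRoot.mk h o * y)) ^ 2 := by
  obtain ⟨P, rfl⟩ := AdjoinRoot.mk_surjective y
  rw [← map_mul, ← map_mul]
  set n := h.natDegree with hndef
  set r := (o * P) %ₘ h with hr
  set t := (e * P) %ₘ h with ht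
  set A := (o * P) /ₘ h with hA
  set B := (e * P) /ₘ h with hB
  have h1 : r + h * A = o * P := modByMonic_add_div _ _
  have h2 : t + h * B = e * P := modByMonic_add_div _ _
  have hne : h ≠ 1 := by
    intro h0
    rw [h0, natDegree_one] at hndef
    omega
  have hrd : r.natDegree ≤ n - 1 := by
    have : r.natDegree < n := natDegree_modByMonic_lt (o * P) hh hne
    omega
  have htd : t.natDegree ≤ n - 1 := by
    have : t.natDegree < n := natDegree_modByMonic_lt (e * P) hh hne
    omega
  set w := P * P - h * (B ^ 2 + X * A ^ 2) with hw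
  have h2' : (2 : F[X]) = 0 := by
    have : (2 : F) = 0 := CharTwo.two_eq_zero
    rw [← C_ofNat, this, C_0]
  have h3 : h * w = t ^ 2 + X * r ^ 2 := by
    have h4 : h * (P * P) = (e * P) ^ 2 + X * (o * P) ^ 2 := by
      conv_lhs => rw [heo]
      ring
    rw [hw, mul_sub, h4, ← h1, ← h2]
    linear_combination (h * B * t + X * r * h * A) * h2'
  have hd2 : (t ^ 2 + X * r ^ 2).natDegree ≤ 2 * n - 1 := by
    refine (natDegree_add_le _ _).trans (max_le ?_ ?_)
    · rw [natDegree_pow]; omega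
    · refine (natDegree_mul_le).trans ?_
      rw [natDegree_pow, natDegree_X]
      omega
  have hwd : w.natDegree ≤ n - 1 := by
    by_cases hw0 : w = 0
    · rw [hw0]; simp
    · have h5 := congrArg natDegree h3
      rw [hh.natDegree_mul' hw0] at h5
      omega
  have hwmod : (P * P) %ₘ h = w := by
    have h6 : P * P = w + h * (B ^ 2 + X * A ^ 2) := by rw [hw]; ring
    rw [h6, add_modByMonic, self_mul_modByMonic hh, add_zero, (modByMonic_eq_self_iff hh).2]
    apply degree_lt_degree
    omega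
  rw [tau_mk, tau_mk, hwmod]
  have h7 := coeff_mul_add_eq_of_natDegree_le (f := h) (g := w) (le_refl n) hwd
  have h8 : h.coeff n = 1 := hh
  rw [h8, one_mul] at h7
  rw [← h7, h3, coeff_add]
  have h9 : (t ^ 2).coeff (n + (n - 1)) = 0 := by
    apply coeff_eq_zero_of_natDegree_lt
    rw [natDegree_pow]
    omega
  have h10 : n + (n - 1) = (n - 1) + (n - 1) + 1 := by omega
  rw [h9, zero_add, h10, coeff_X_mul, sq, coeff_mul_add_eq_of_natDegree_le hrd hrd, ← sq]

theorem tau_div (hn : 0 < h.natDegree) (h0 : h.coeff 0 ≠ 0) {P : F[X]} (hP : P.natDegree < h.natDegree)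
    {z : AdjoinRoot h} (hz : AdjoinRoot.root h * z = AdjoinRoot.mk h P) :
    tau hh z = P.coeff 0 / h.coeff 0 := by
  have hs : IsUnit (AdjoinRoot.root h) := by
    have := isUnit_root_sub (h := h) (c := 0) (by rwa [← coeff_zero_eq_eval_zero])
    rwa [map_zero, sub_zero] at this
  have h1 : z = AdjoinRoot.mk h (P.divX - C (P.coeff 0 / h.coeff 0) * h.divX) := by
    apply hs.mul_left_cancel
    rw [hz, ← AdjoinRoot.mk_X, ← map_mul]
    have h2 : P = X * (P.divX - C (P.coeff 0 / h.coeff 0) * h.divX) +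
        C (P.coeff 0 / h.coeff 0) * h := by
      have h3 := divX_mul_X_add P
      have h4 := divX_mul_X_add h
      have h5 : (C (P.coeff 0) : F[X]) = C (P.coeff 0 / h.coeff 0) * C (h.coeff 0) := by
        rw [← C_mul, div_mul_cancel₀ _ h0]
      linear_combination -h3 + C (P.coeff 0 / h.coeff 0) * h4 + h5
    conv_lhs => rw [h2]
    rw [map_add, map_mul (AdjoinRoot.mk h) (C _) h, AdjoinRoot.mk_self, mul_zero, add_zero]
  rw [h1, tau_mk_of_degree_lt]
  · rw [coeff_sub, coeff_C_mul, coeff_divX, coeff_divX]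
    have h5 : h.natDegree - 1 + 1 = h.natDegree := by omega
    rw [h5, coeff_eq_zero_of_natDegree_lt hP, zero_sub, hh.coeff_natDegree, mul_one]
    exact CharTwo.neg_eq _
  · apply degree_lt_degree
    refine lt_of_le_of_lt (natDegree_sub_le _ _) (max_lt ?_ ?_)
    · rw [natDegree_divX_eq_natDegree_tsub_one]; omega
    · refine lt_of_le_of_lt (natDegree_C_mul_le _ _) ?_
      rw [natDegree_divX_eq_natDegree_tsub_one]; omega

theorem gsum_Qh [Finite F] [Fintype (AdjoinRoot h)] (hn : 0 < h.natDegree) (h0 : h.coeff 0 ≠ 0) :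
    gsum (Qh hh) = (Fintype.card (AdjoinRoot h) : ℤ) * psi (h.coeff 1 / h.coeff 0) := by
  classical
  obtain ⟨e, o, heo⟩ := exists_even_odd h
  have hs : IsUnit (AdjoinRoot.root h) := by
    have := isUnit_root_sub (h := h) (c := 0) (by rwa [← coeff_zero_eq_eval_zero])
    rwa [map_zero, sub_zero] at this
  obtain ⟨si, hsi⟩ := hs.exists_right_inv
  set s := AdjoinRoot.root h with hsdef
  set O := AdjoinRoot.mk h o with hO
  have h2' : (2 : AdjoinRoot h) = 0 := by
    have : (2 : F) = 0 := CharTwo.two_eq_zero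
    have h5 : (algebraMap F (AdjoinRoot h) 2) = 2 := map_ofNat _ 2
    rw [← h5, this, map_zero]
  have h1 : gsum (Qh hh) = ∑ x : AdjoinRoot h, ∑ y : AdjoinRoot h,
      psi (tau hh (x * x)) * psi (tau hh ((s * x + O) * y)) := by
    rw [gsum, ← Finset.univ_product_univ, Finset.sum_product]
    refine Finset.sum_congr rfl fun x _ => Finset.sum_congr rfl fun y _ => ?_
    rw [Qh_apply, map_add, map_add, psi_add, psi_add, tau_sq hh hn heo y, psi_sq, ← hsdef, ← hO,
      mul_assoc, ← psi_add, ← map_add]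
    congr 3
    ring
  have h3 : ∀ x : AdjoinRoot h, ∑ y : AdjoinRoot h,
      psi (tau hh (x * x)) * psi (tau hh ((s * x + O) * y)) =
      if x = si * O then (Fintype.card (AdjoinRoot h) : ℤ) * psi (tau hh (x * x)) else 0 := by
    intro x
    rw [← Finset.mul_sum]
    split_ifs with hx
    · have h4 : s * x + O = 0 := by
        rw [hx]
        linear_combination O * hsi + O * h2'
      rw [h4]
      simp [psi_zero, mul_comm]
    · have h4 : ((tau hh).comp (LinearMap.mulLeft F (s * x + O))) ≠ 0 := by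
        intro h5
        apply hx
        have h6 : s * x + O = 0 := by
          apply tau_nondeg hh
          intro y
          have := LinearMap.congr_fun h5 y
          simpa using this
        linear_combination si * h6 - x * hsi - si * O * h2'
      have h7 := sum_psi_linear _ h4
      have h8 : ∑ y, psi (tau hh ((s * x + O) * y)) =
          ∑ v, psi (((tau hh).comp (LinearMap.mulLeft F (s * x + O))) v) := rfl
      rw [h8, h7, mul_zero]
  rw [h1, Finset.sum_congr rfl fun x _ => h3 x, Finset.sum_ite_eq' Finset.univ (si * O),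
    if_pos (Finset.mem_univ _)]
  congr 1
  rw [tau_sq hh hn heo, psi_sq, ← hO]
  congr 1
  have h9 : s * (O * (si * O)) = AdjoinRoot.mk h (o ^ 2) := by
    rw [map_pow, ← hO]
    linear_combination O ^ 2 * hsi
  by_cases ho : o = 0
  · have hO0 : O = 0 := by rw [hO, ho, map_zero]
    rw [hO0, zero_mul, map_zero, heo, ho, coeff_add, coeff_one_sq]
    simp
  · rw [tau_div hh hn h0 ?_ h9]
    · congr 1
      conv_rhs => rw [heo]
      rw [coeff_add, coeff_one_sq, zero_add, show (1 : ℕ) = 0 + 1 from rfl, coeff_X_mul]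
    · rw [natDegree_pow]
      have := natDegree_odd_le heo ho
      omega

end Cfsg.Agent.H174.CN
end

-- part: H174/CNCount
section
/-!
Lower bound for the number of conjugacy classes by characteristic polynomials of `g + g⁻¹`.
-/

set_option autoImplicit false

namespace Cfsg.Agent.H174.CN

open Polynomial Module Cfsg

theorem card_le_conjClasses {G α : Type*} [Group G] [Finite G] (f : G → α)
    (hf : ∀ a b, IsConj a b → f a = f b) (s : Finset α) (hs : ∀ x ∈ s, ∃ g, f g = x) :
    s.card ≤ Nat.card (ConjClasses G) := by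
  classical
  choose! k hk using hs
  have h1 : Function.Injective (fun x : s => ConjClasses.mk (k x.1)) := by
    intro x y hxy
    have h2 := hf _ _ (ConjClasses.mk_eq_mk_iff_isConj.1 hxy)
    rw [hk x.1 x.2, hk y.1 y.2] at h2
    exact Subtype.ext h2
  have h3 := Nat.card_le_card_of_injective _ h1
  simpa using h3

variable {ι : Type} [Fintype ι] [DecidableEq ι] {F : Type*} [Field F]

theorem charpoly_add_inv_conj (G : Subgroup (Matrix.GeneralLinearGroup ι F)) (a b : G) (h : IsConj a b) :
    (((a : Matrix.GeneralLinearGroup ι F) : Matrix ι ι F) +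
      (((a : Matrix.GeneralLinearGroup ι F)⁻¹ : Matrix.GeneralLinearGroup ι F) : Matrix ι ι F)).charpoly =
    (((b : Matrix.GeneralLinearGroup ι F) : Matrix ι ι F) +
      (((b : Matrix.GeneralLinearGroup ι F)⁻¹ : Matrix.GeneralLinearGroup ι F) : Matrix ι ι F)).charpoly := by
  obtain ⟨c, hc⟩ := isConj_iff.1 h
  rw [← hc]
  have h1 : (((c * a * c⁻¹ : G) : Matrix.GeneralLinearGroup ι F) : Matrix ι ι F) =
      (c : Matrix.GeneralLinearGroup ι F).val * (a : Matrix.GeneralLinearGroup ι F).val *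
        ((c : Matrix.GeneralLinearGroup ι F)⁻¹).val := by
    simp
  have h2 : (((((c * a * c⁻¹ : G) : Matrix.GeneralLinearGroup ι F))⁻¹ :
      Matrix.GeneralLinearGroup ι F) : Matrix ι ι F) =
      (c : Matrix.GeneralLinearGroup ι F).val * ((a : Matrix.GeneralLinearGroup ι F)⁻¹).val *
        ((c : Matrix.GeneralLinearGroup ι F)⁻¹).val := by
    have : ((((c * a * c⁻¹ : G) : Matrix.GeneralLinearGroup ι F))⁻¹ :
      Matrix.GeneralLinearGroup ι F) = (c : Matrix.GeneralLinearGroup ι F) *
        ((a : Matrix.GeneralLinearGroup ι F)⁻¹) * ((c : Matrix.GeneralLinearGroup ι F)⁻¹) := by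
      simp [mul_assoc]
    rw [this, Units.val_mul, Units.val_mul]
  rw [h1, h2, ← add_mul, ← mul_add, Matrix.coe_units_inv (c : Matrix.GeneralLinearGroup ι F),
    Matrix.charpoly_units_conj]

theorem mem_isometryGroup_iff {Q : (ι → F) → F} {g : Matrix.GeneralLinearGroup ι F} :
    g ∈ isometryGroup F Q ↔ ∀ u, Q ((g : Matrix ι ι F).mulVec u) = Q u :=
  ⟨fun h u => h u u, fun h u _ => h u⟩

/-- lower bound for the class number of an isometry group -/
theorem card_le_of_rz [Finite F] (Q : (ι → F) → F) (s : Finset F[X]) (hs : ∀ p ∈ s, Rz Q p) :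
    s.card ≤ Nat.card (ConjClasses (isometryGroup F Q)) := by
  refine card_le_conjClasses (fun g : isometryGroup F Q =>
    (((g : Matrix.GeneralLinearGroup ι F) : Matrix ι ι F) +
      (((g : Matrix.GeneralLinearGroup ι F)⁻¹ : Matrix.GeneralLinearGroup ι F) : Matrix ι ι F)).charpoly)
    (fun a b h => charpoly_add_inv_conj _ a b h) s ?_
  intro p hp
  obtain ⟨g, hg, hgp⟩ := hs p hp
  let u : Matrix.GeneralLinearGroup ι F := ⟨LinearMap.toMatrix' g.toLinearMap,
    LinearMap.toMatrix' g.symm.toLinearMap, by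
      rw [← LinearMap.toMatrix'_comp, LinearEquiv.comp_coe]; simp, by
      rw [← LinearMap.toMatrix'_comp, LinearEquiv.comp_coe]; simp⟩
  have hu : ∀ v, u.val.mulVec v = g v := fun v => by
    change (LinearMap.toMatrix' g.toLinearMap).mulVec v = _
    rw [← Matrix.toLin'_apply, Matrix.toLin'_toMatrix']
    rfl
  refine ⟨⟨u, ?_⟩, ?_⟩
  · rw [mem_isometryGroup_iff]
    intro v
    rw [hu, hg]
  · rw [← hgp]
    change (LinearMap.toMatrix' g.toLinearMap + LinearMap.toMatrix' g.symm.toLinearMap).charpoly = _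
    rw [← map_add, ← LinearMap.charpoly_toMatrix _ (Pi.basisFun F ι)]
    rfl

end Cfsg.Agent.H174.CN
end

-- part: H174/CNType
section
/-!
Characteristic two: nondegenerate quadratic forms are classified by their Gauss sums; each side
of the lower bound for the class numbers of `O^±(2n,q)`, `q` even.
-/

set_option autoImplicit false

namespace Cfsg.Agent.H174.CN

open Polynomial Module Cfsg

theorem nondeg_of {F V : Type*} [Field F] [AddCommGroup V] [Module F V] (Q : QuadraticForm F V)
    (hQ : ∀ v, (∀ w, QuadraticMap.polar Q v w = 0) → v = 0) :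
    (QuadraticMap.polarBilin Q).Nondegenerate := by
  refine ⟨fun v hv => hQ v fun w => hv w, fun v hv => hQ v fun w => ?_⟩
  rw [QuadraticMap.polar_comm]
  exact hv w

variable {F : Type*} [Field F] [CharP F 2]

theorem two_eq_zero' : (2 : F) = 0 := CharTwo.two_eq_zero

/-- the polar form of the minus form is nondegenerate -/
theorem minusQ_nondeg [Finite F] (m : ℕ) {a b : F}
    (hab : ∀ z₁ z₂ : F, z₁ ^ 2 + a * z₁ * z₂ + b * z₂ ^ 2 = 0 → z₁ = 0 ∧ z₂ = 0) :
    (QuadraticMap.polarBilin (minusQ m F a b)).Nondegenerate := by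
  classical
  have ha : a ≠ 0 := by
    rintro rfl
    obtain ⟨d, hd⟩ := exists_sqrt b
    have h := hab d 1 (by
      rw [← hd]
      linear_combination d ^ 2 * two_eq_zero' (F := F))
    exact one_ne_zero h.2
  apply nondeg_of
  intro u h
  have h2 : (2 : F) = 0 := two_eq_zero'
  funext i
  rcases i with (i | i) | i
  · have := h (Pi.single (.inl (.inr i)) 1)
    rw [polar_minusQ] at this
    simpa [minusPolar, Pi.single_apply] using this
  · have := h (Pi.single (.inl (.inl i)) 1)
    rw [polar_minusQ] at this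
    simpa [minusPolar, Pi.single_apply] using this
  · fin_cases i
    · have := h (Pi.single (.inr 1) 1)
      rw [polar_minusQ] at this
      simpa [minusPolar, Pi.single_apply, h2, ha] using this
    · have := h (Pi.single (.inr 0) 1)
      rw [polar_minusQ] at this
      simpa [minusPolar, Pi.single_apply, h2, ha] using this

omit [CharP F 2] in
theorem aniso_of {ζ : F} [Finite F] (hζ : ∀ t : F, t ^ 2 + t + ζ ≠ 0) :
    ∀ z₁ z₂ : F, z₁ ^ 2 + 1 * z₁ * z₂ + ζ * z₂ ^ 2 = 0 → z₁ = 0 ∧ z₂ = 0 := by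
  intro x y hxy
  by_cases hy : y = 0
  · subst hy
    simp at hxy
    exact ⟨hxy, rfl⟩
  · exfalso
    apply hζ (x / y)
    field_simp
    linear_combination hxy

theorem not_isAS_of {ζ : F} (hζ : ∀ t : F, t ^ 2 + t + ζ ≠ 0) : ¬ IsAS ζ := by
  rintro ⟨w, hw⟩
  apply hζ w
  rw [hw]
  exact CharTwo.add_self_eq_zero ζ

theorem minus_congr (m : ℕ) [Finite F] {ζ ζ' : F} (h1 : ¬ IsAS ζ) (h2 : ¬ IsAS ζ') :
    ∃ e : ((Fin m ⊕ Fin m) ⊕ Fin 2 → F) ≃ₗ[F] ((Fin m ⊕ Fin m) ⊕ Fin 2 → F),
      ∀ v, quadFormMinus m F 1 ζ v = quadFormMinus m F 1 ζ' (e v) := by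
  obtain ⟨c, hc⟩ : IsAS (ζ + ζ') := by
    rw [isAS_add_iff]
    simp [h1, h2]
  let f : ((Fin m ⊕ Fin m) ⊕ Fin 2 → F) → ((Fin m ⊕ Fin m) ⊕ Fin 2 → F) := fun v i =>
    match i with
    | .inl j => v (.inl j)
    | .inr 0 => v (.inr 0) + c * v (.inr 1)
    | .inr 1 => v (.inr 1)
  have hf : ∀ v, f (f v) = v := by
    intro v
    funext i
    rcases i with j | j
    · rfl
    · fin_cases j
      · change v (.inr 0) + c * v (.inr 1) + c * v (.inr 1) = v (.inr 0)
        linear_combination c * v (.inr 1) * two_eq_zero' (F := F)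
      · rfl
  let e : ((Fin m ⊕ Fin m) ⊕ Fin 2 → F) ≃ₗ[F] ((Fin m ⊕ Fin m) ⊕ Fin 2 → F) :=
    { toFun := f
      invFun := f
      left_inv := hf
      right_inv := hf
      map_add' := by
        intro u v
        funext i
        rcases i with j | j
        · rfl
        · fin_cases j
          · change (u (.inr 0) + v (.inr 0)) + c * (u (.inr 1) + v (.inr 1)) =
              (u (.inr 0) + c * u (.inr 1)) + (v (.inr 0) + c * v (.inr 1))
            ring
          · rfl
      map_smul' := by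
        intro a v
        funext i
        rcases i with j | j
        · rfl
        · fin_cases j
          · change a * v (.inr 0) + c * (a * v (.inr 1)) = a * (v (.inr 0) + c * v (.inr 1))
            ring
          · rfl }
  refine ⟨e, fun v => ?_⟩
  have h3 : quadFormMinus m F 1 ζ' (e v) = (∑ i : Fin m, v (.inl (.inl i)) * v (.inl (.inr i))) +
    ((v (.inr 0) + c * v (.inr 1)) ^ 2 + 1 * (v (.inr 0) + c * v (.inr 1)) * v (.inr 1) +
      ζ' * v (.inr 1) ^ 2) := rfl
  rw [h3, quadFormMinus]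
  have h4 : ζ' = c ^ 2 + c + ζ := by
    rw [hc]
    linear_combination -ζ * two_eq_zero' (F := F)
  rw [h4]
  linear_combination (-c * v (.inr 0) * v (.inr 1) - c ^ 2 * v (.inr 1) ^ 2 - c * v (.inr 1) ^ 2) *
    two_eq_zero' (F := F)

variable [Fintype F]

omit [CharP F 2] in
theorem card_pow_pos (m : ℕ) : 0 < (Fintype.card F : ℤ) ^ m := by
  have : 0 < Fintype.card F := Fintype.card_pos
  positivity

theorem exists_plus {V : Type*} [AddCommGroup V] [Module F V] [FiniteDimensional F V] [Fintype V]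
    {m : ℕ} (hm : 1 ≤ m) (hV : finrank F V = 2 * m) (Q : QuadraticForm F V)
    (hQ : (QuadraticMap.polarBilin Q).Nondegenerate) (hg : gsum Q = (Fintype.card F : ℤ) ^ m) :
    ∃ e : V ≃ₗ[F] (Fin m ⊕ Fin m → F), ∀ v, Q v = quadFormPlus m F (e v) := by
  rcases exists_std hm hV Q hQ with h | ⟨ζ, e, hζ, he⟩
  · exact h
  · exfalso
    rw [gsum_congr e.toEquiv he, gsum_minus _ (aniso_of hζ), Nat.sub_add_cancel hm] at hg
    have := card_pow_pos (F := F) m
    linarith

theorem exists_minus {V : Type*} [AddCommGroup V] [Module F V] [FiniteDimensional F V] [Fintype V]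
    {m : ℕ} (hm : 1 ≤ m) (hV : finrank F V = 2 * m) (Q : QuadraticForm F V)
    (hQ : (QuadraticMap.polarBilin Q).Nondegenerate) (hg : gsum Q = -(Fintype.card F : ℤ) ^ m)
    {a b : F} (hab : ∀ z₁ z₂ : F, z₁ ^ 2 + a * z₁ * z₂ + b * z₂ ^ 2 = 0 → z₁ = 0 ∧ z₂ = 0) :
    ∃ e : V ≃ₗ[F] ((Fin (m - 1) ⊕ Fin (m - 1)) ⊕ Fin 2 → F),
      ∀ v, Q v = quadFormMinus (m - 1) F a b (e v) := by
  have hpos := card_pow_pos (F := F) m
  rcases exists_std hm hV Q hQ with ⟨e, he⟩ | ⟨ζ, e, hζ, he⟩
  · exfalso
    rw [gsum_congr e.toEquiv he, gsum_plus] at hg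
    linarith
  · have hfr : finrank F ((Fin (m - 1) ⊕ Fin (m - 1)) ⊕ Fin 2 → F) = 2 * m := by
      rw [finrank_fintype_fun_eq_card]
      simp
      omega
    rcases exists_std hm hfr (minusQ (m - 1) F a b) (minusQ_nondeg (m - 1) hab) with
      ⟨e', he'⟩ | ⟨ζ', e', hζ', he'⟩
    · exfalso
      have h1 := gsum_minus (m - 1) hab
      have h2 : gsum (quadFormMinus (m - 1) F a b) = gsum (quadFormPlus m F) :=
        gsum_congr e'.toEquiv he'
      rw [h2, gsum_plus, Nat.sub_add_cancel hm] at h1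
      linarith
    · obtain ⟨e'', he''⟩ := minus_congr (m - 1) (not_isAS_of hζ) (not_isAS_of hζ')
      refine ⟨(e.trans e'').trans e'.symm, fun v => ?_⟩
      rw [he, he'']
      have h3 := he' (e'.symm (e'' (e v)))
      rw [e'.apply_symm_apply, minusQ_apply] at h3
      rw [← h3]
      rfl

end Cfsg.Agent.H174.CN
end

-- part: H174/CNEven
section
/-!
Lower bound for the class numbers of `O^±(2n,q)`, `q` even.
-/

set_option autoImplicit false

namespace Cfsg.Agent.H174.CN

open Polynomial Module Cfsg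

universe u

variable {F : Type u} [Field F] [CharP F 2] [Fintype F]

omit [CharP F 2] [Fintype F] in
theorem gsum_inst {V : Type*} (i j : Fintype V) (Q : V → F) : @gsum F _ V i Q = @gsum F _ V j Q := by
  rw [Subsingleton.elim i j]

omit [Fintype F] in
theorem X_sub_C_two : (X - C 2 : F[X]) = X := by
  rw [two_eq_zero' (F := F), C_0, sub_zero]

omit [Fintype F] in
theorem eval_two (h : F[X]) : h.eval 2 = h.coeff 0 := by
  rw [two_eq_zero' (F := F), coeff_zero_eq_eval_zero]

omit [Fintype F] in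
theorem eval_neg_two (h : F[X]) : h.eval (-2) = h.coeff 0 := by
  rw [two_eq_zero' (F := F), neg_zero, coeff_zero_eq_eval_zero]

omit [Fintype F] in
theorem Qh_nondegenerate {h : F[X]} (hh : h.Monic) (h0 : h.coeff 0 ≠ 0) :
    (QuadraticMap.polarBilin (Qh hh)).Nondegenerate :=
  nondeg_of _ fun _ hv => nondeg_Qh hh (by rwa [eval_two]) (by rwa [eval_neg_two]) hv

omit [CharP F 2] [Fintype F] in
/-- realization on an abstract space whose form is a product -/
theorem prod_nondeg {V W : Type*} [AddCommGroup V] [Module F V] [AddCommGroup W] [Module F W]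
    {Q : QuadraticForm F V} {Q' : QuadraticForm F W} (h : (QuadraticMap.polarBilin Q).Nondegenerate)
    (h' : (QuadraticMap.polarBilin Q').Nondegenerate) :
    (QuadraticMap.polarBilin (Q.prod Q')).Nondegenerate := by
  apply nondeg_of
  intro v hv
  ext
  · apply h.1
    intro w
    have := hv (w, 0)
    simpa [QuadraticMap.polar] using this
  · apply h'.1
    intro w
    have := hv (0, w)
    simpa [QuadraticMap.polar] using this

omit [CharP F 2] [Fintype F] in
/-- a polynomial of degree `n` is `X^k * h'` with `h'(0) ≠ 0` -/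
theorem exists_factor {h : F[X]} (hh : h.Monic) : ∃ (k : ℕ) (h' : F[X]), h = X ^ k * h' ∧ h'.Monic ∧
    h'.coeff 0 ≠ 0 ∧ h.natDegree = k + h'.natDegree := by
  obtain ⟨h', h1, h2⟩ := exists_eq_pow_rootMultiplicity_mul_and_not_dvd h hh.ne_zero 0
  rw [C_0, sub_zero] at h1 h2
  have h3 : h'.Monic := by
    have : (X ^ h.rootMultiplicity 0 * h').Monic := h1 ▸ hh
    exact (monic_X_pow _).of_mul_monic_left this
  refine ⟨_, h', h1, h3, ?_, ?_⟩
  · intro h4
    exact h2 (X_dvd_iff.2 h4)
  · conv_lhs => rw [h1]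
    rw [(monic_X_pow _).natDegree_mul h3, natDegree_X_pow]

omit [CharP F 2] [Fintype F] in
theorem psi_cases (z : F) : psi z = 1 ∨ psi z = -1 := by
  by_cases hz : IsAS z
  · exact Or.inl (psi_of_isAS hz)
  · exact Or.inr (psi_of_not_isAS hz)

/-- existence of nondegenerate forms of each type on some space -/
theorem exists_form {a b : F} (hab : ∀ z₁ z₂ : F, z₁ ^ 2 + a * z₁ * z₂ + b * z₂ ^ 2 = 0 → z₁ = 0 ∧ z₂ = 0)
    (k : ℕ) (hk : 1 ≤ k) {ε : ℤ} (hε : ε = 1 ∨ ε = -1) :
    ∃ (ι : Type) (_ : Fintype ι) (Q : QuadraticForm F (ι → F)), Fintype.card ι = 2 * k ∧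
      (QuadraticMap.polarBilin Q).Nondegenerate ∧
      ∀ (_ : Fintype (ι → F)), gsum Q = ε * (Fintype.card F : ℤ) ^ k := by
  classical
  rcases hε with rfl | rfl
  · refine ⟨Fin k ⊕ Fin k, inferInstance, plusQ k F, ?_, ?_, ?_⟩
    · simp; omega
    · have : QuadraticMap.polarBilin (plusQ k F) =
          ClassicalGeometry.QuadPlusBasic.polarForm k F := by
        refine LinearMap.ext fun u => LinearMap.ext fun v => ?_
        exact polar_plusQ k F u v
      rw [this]
      exact ClassicalGeometry.QuadPlusBasic.polarForm_nondegenerate k F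
    · intro inst
      rw [one_mul, ← gsum_plus k]
      exact gsum_inst _ _ _
  · refine ⟨(Fin (k - 1) ⊕ Fin (k - 1)) ⊕ Fin 2, inferInstance, minusQ (k - 1) F a b, ?_, ?_, ?_⟩
    · simp; omega
    · exact minusQ_nondeg (k - 1) hab
    · intro inst
      have h1 := gsum_minus (k - 1) hab
      rw [Nat.sub_add_cancel hk] at h1
      rw [neg_one_mul, ← h1]
      exact gsum_inst _ _ _

theorem rz_of_recog {ι : Type} [Fintype ι] [DecidableEq ι] (Q : (ι → F) → F) {ε : ℤ} {n : ℕ}
    (hε : ε = 1 ∨ ε = -1)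
    (hrec : ∀ {V : Type u} [AddCommGroup V] [Module F V] [FiniteDimensional F V] [Fintype V],
      finrank F V = 2 * n → ∀ (Q' : QuadraticForm F V),
      (QuadraticMap.polarBilin Q').Nondegenerate → gsum Q' = ε * (Fintype.card F : ℤ) ^ n →
      ∃ e : V ≃ₗ[F] (ι → F), ∀ v, Q' v = Q (e v))
    (hcard : Fintype.card ι = 2 * n)
    {a b : F} (hab : ∀ z₁ z₂ : F, z₁ ^ 2 + a * z₁ * z₂ + b * z₂ ^ 2 = 0 → z₁ = 0 ∧ z₂ = 0)
    {h : F[X]} (hh : h.Monic) (hn : h.natDegree = n) (hn0 : 0 < n)
    (hs : h.coeff 0 = 0 ∨ psi (h.coeff 1 / h.coeff 0) = ε) : Rz Q (h ^ 2) := by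
  classical
  have hfr : ∀ {f : F[X]}, f.Monic → f.coeff 0 ≠ 0 → 0 < f.natDegree →
      ∀ (_ : Fintype (AdjoinRoot f × AdjoinRoot f)) (hf : f.Monic),
      gsum (Qh hf) = (Fintype.card F : ℤ) ^ f.natDegree * psi (f.coeff 1 / f.coeff 0) := by
    intro f _ hf0 hfd inst hf
    have := finite_adjoinRoot hf
    have : Finite (AdjoinRoot f) := Module.finite_of_finite F
    have := Fintype.ofFinite (AdjoinRoot f)
    have h1 := gsum_Qh hf hfd hf0
    have h2 : (Fintype.card (AdjoinRoot f) : ℤ) = (Fintype.card F : ℤ) ^ f.natDegree := by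
      rw [Module.card_eq_pow_finrank (K := F), finrank_adjoinRoot hf]
      push_cast
      rfl
    rw [← h2, ← h1]
    exact gsum_inst _ _ _
  rcases eq_or_ne (h.coeff 0) 0 with h0 | h0
  · obtain ⟨k, h', h1, h2, h3, h4⟩ := exists_factor hh
    have hk : 1 ≤ k := by
      by_contra hk
      have : k = 0 := by omega
      rw [this, pow_zero, one_mul] at h1
      rw [h1] at h0
      exact h3 h0
    rcases Nat.eq_zero_or_pos h'.natDegree with h5 | h5
    · have h6 : h' = 1 := h2.natDegree_eq_zero.1 h5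
      have h7 := Rz.one Q
      rw [X_sub_C_two, finrank_fintype_fun_eq_card, hcard] at h7
      have h8 : h ^ 2 = X ^ (2 * n) := by
        rw [h1, h6, mul_one, ← pow_mul]
        congr 1
        omega
      rw [h8]
      exact h7
    · have : Module.Finite F (AdjoinRoot h') := finite_adjoinRoot h2
      have : Finite (AdjoinRoot h') := Module.finite_of_finite F
      have := Fintype.ofFinite (AdjoinRoot h')
      have hε' : ε * psi (h'.coeff 1 / h'.coeff 0) = 1 ∨ ε * psi (h'.coeff 1 / h'.coeff 0) = -1 := by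
        rcases hε with rfl | rfl <;> rcases psi_cases (h'.coeff 1 / h'.coeff 0) with h9 | h9 <;>
          simp [h9]
      obtain ⟨κ, _, U, hκ, hU, hUg⟩ := exists_form hab k hk hε'
      have hUg' := hUg (Fintype.ofFinite _)
      let _ : Fintype (κ → F) := Fintype.ofFinite _
      have h9 : finrank F ((AdjoinRoot h' × AdjoinRoot h') × (κ → F)) = 2 * n := by
        rw [finrank_prod, finrank_prod, finrank_adjoinRoot h2, finrank_fintype_fun_eq_card, hκ]
        omega
      have h10 : gsum ((Qh h2).prod U) = ε * (Fintype.card F : ℤ) ^ n := by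
        have h11 := gsum_prod (Qh h2) U
        rw [hfr h2 h3 h5 inferInstance h2, hUg'] at h11
        have h12 : gsum ((Qh h2).prod U) =
          gsum (fun x : (AdjoinRoot h' × AdjoinRoot h') × (κ → F) => Qh h2 x.1 + U x.2) :=
          gsum_congr (Equiv.refl _) fun v => rfl
        rw [h12, h11, ← hn, h4, pow_add]
        rcases psi_cases (h'.coeff 1 / h'.coeff 0) with h13 | h13 <;> rw [h13] <;> ring
      obtain ⟨e, he⟩ := hrec h9 ((Qh h2).prod U) (prod_nondeg (Qh_nondegenerate h2 h3) hU) h10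
      have h14 := (rz_Qh h2).prod (Rz.one U)
      have h15 := h14.congr e he
      rw [X_sub_C_two, finrank_fintype_fun_eq_card, hκ] at h15
      rw [h1, mul_pow, ← pow_mul, mul_comm k 2, mul_comm]
      exact h15
  · have hs' : psi (h.coeff 1 / h.coeff 0) = ε := by
      rcases hs with h1 | h1
      · exact absurd h1 h0
      · exact h1
    have : Module.Finite F (AdjoinRoot h) := finite_adjoinRoot hh
    have : Finite (AdjoinRoot h) := Module.finite_of_finite F
    have := Fintype.ofFinite (AdjoinRoot h)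
    have h1 := hfr hh h0 (by omega) inferInstance hh
    have h2 : finrank F (AdjoinRoot h × AdjoinRoot h) = 2 * n := by
      rw [finrank_prod, finrank_adjoinRoot hh]
      omega
    obtain ⟨e, he⟩ := hrec h2 (Qh hh) (Qh_nondegenerate hh h0) (by rw [h1, hs', hn, mul_comm])
    exact (rz_Qh hh).congr e he

end Cfsg.Agent.H174.CN
end

-- part: H174/CNEvenLower
section
/-!
`q^n ≤ 2 k(O^±(2n,q))` for `q` even, `n ≥ 2`.
-/

set_option autoImplicit false

namespace Cfsg.Agent.H174.CN

open Polynomial Module Cfsg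

universe u

section pol

variable {F : Type u} [Field F]

/-- the monic polynomial of degree `n` with lower coefficients `v` -/
noncomputable def pol {n : ℕ} (v : Fin n → F) : F[X] := X ^ n + ∑ i : Fin n, C (v i) * X ^ (i : ℕ)

theorem pol_monic {n : ℕ} (v : Fin n → F) : (pol v).Monic :=
  monic_X_pow_add (degree_sum_fin_lt v)

theorem natDegree_pol {n : ℕ} (v : Fin n → F) : (pol v).natDegree = n := by
  apply natDegree_eq_of_degree_eq_some
  rw [pol, degree_add_eq_left_of_degree_lt, degree_X_pow]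
  rw [degree_X_pow]
  exact degree_sum_fin_lt v

theorem coeff_pol {n : ℕ} (v : Fin n → F) (j : Fin n) : (pol v).coeff j = v j := by
  rw [pol, coeff_add, coeff_X_pow, if_neg (by omega), zero_add, finsetSum_coeff]
  simp only [coeff_C_mul, coeff_X_pow]
  rw [Finset.sum_eq_single j]
  · simp
  · intro b _ hb
    rw [if_neg, mul_zero]
    intro h
    exact hb (Fin.ext h.symm)
  · simp

theorem pol_injective (n : ℕ) : Function.Injective (pol : (Fin n → F) → F[X]) := by
  intro v w h
  funext j
  rw [← coeff_pol v j, ← coeff_pol w j, h]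

theorem monic_sq_inj {p q : F[X]} (hp : p.Monic) (hq : q.Monic) (h : p ^ 2 = q ^ 2) : p = q := by
  rcases sq_eq_sq_iff_eq_or_eq_neg.1 h with h1 | h1
  · exact h1
  · have h2 : p.leadingCoeff = -q.leadingCoeff := by rw [h1, leadingCoeff_neg]
    rw [hp.leadingCoeff, hq.leadingCoeff] at h2
    have h3 : (2 : F) = 0 := by linear_combination h2
    have h4 : (2 : F[X]) = 0 := by rw [← C_ofNat, h3, C_0]
    rw [h1]
    linear_combination -q * h4

theorem pol_sq_injective (n : ℕ) : Function.Injective (fun v : Fin n → F => pol v ^ 2) :=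
  fun v w h => pol_injective n (monic_sq_inj (pol_monic v) (pol_monic w) h)

end pol

variable {F : Type u} [Field F] [CharP F 2] [Fintype F]

theorem card_good {n : ℕ} (hn : 2 ≤ n) (ε : ℤ) (hε : ε = 1 ∨ ε = -1) :
    ∃ A : Finset (Fin n → F), Fintype.card F ^ n ≤ 2 * A.card ∧
      ∀ v ∈ A, (pol v).coeff 0 = 0 ∨ psi ((pol v).coeff 1 / (pol v).coeff 0) = ε := by
  classical
  let i0 : Fin n := ⟨0, by omega⟩
  let i1 : Fin n := ⟨1, by omega⟩
  have h01 : i0 ≠ i1 := by
    intro h
    have := congrArg Fin.val h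
    simp [i0, i1] at this
  let A : ℤ → Finset (Fin n → F) := fun ε => Finset.univ.filter fun v => v i0 = 0 ∨ psi (v i1 / v i0) = ε
  obtain ⟨c, hc⟩ := exists_not_isAS (F := F)
  let σ : (Fin n → F) → (Fin n → F) := fun v => Function.update v i1 (v i1 + c * v i0)
  have hσ0 : ∀ v, σ v i0 = v i0 := fun v => Function.update_of_ne h01 _ _
  have hσ1 : ∀ v, σ v i1 = v i1 + c * v i0 := fun v => Function.update_self _ _ _
  have hσσ : Function.Involutive σ := by
    intro v
    funext j
    by_cases hj : j = i1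
    · subst hj
      rw [hσ1, hσ1, hσ0]
      linear_combination c * v i0 * two_eq_zero' (F := F)
    · simp only [σ]
      rw [Function.update_of_ne hj, Function.update_of_ne hj]
  have hmap : ∀ ε v, v ∈ A ε → σ v ∈ A (-ε) := by
    intro ε v hv
    simp only [A, Finset.mem_filter, Finset.mem_univ, true_and] at hv ⊢
    rw [hσ0, hσ1]
    by_cases h0 : v i0 = 0
    · exact Or.inl h0
    · right
      rcases hv with hv | hv
      · exact absurd hv h0
      · have : (v i1 + c * v i0) / v i0 = v i1 / v i0 + c := by field_simp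
        rw [this, psi_add, hv, psi_of_not_isAS hc]
        ring
  have hle : ∀ ε, (A ε).card ≤ (A (-ε)).card := fun ε =>
    Finset.card_le_card_of_injOn σ (hmap ε) (hσσ.injective.injOn)
  have hunion : (Finset.univ : Finset (Fin n → F)) ⊆ A ε ∪ A (-ε) := by
    intro v _
    rw [Finset.mem_union]
    simp only [A, Finset.mem_filter, Finset.mem_univ, true_and]
    rcases hε with rfl | rfl <;> rcases psi_cases (v i1 / v i0) with h | h <;> simp [h]
  have h1 := Finset.card_le_card hunion
  have h2 := h1.trans (Finset.card_union_le _ _)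
  have h3 := hle (-ε)
  rw [neg_neg] at h3
  rw [Finset.card_univ, Fintype.card_fun, Fintype.card_fin] at h2
  refine ⟨A ε, by omega, ?_⟩
  intro v hv
  simp only [A, Finset.mem_filter, Finset.mem_univ, true_and] at hv
  have e0 : (pol v).coeff 0 = v i0 := coeff_pol v i0
  have e1 : (pol v).coeff 1 = v i1 := coeff_pol v i1
  rw [e0, e1]
  exact hv

theorem card_le_two_mul {ι : Type} [Fintype ι] [DecidableEq ι] (Q : (ι → F) → F) {n : ℕ} (hn : 2 ≤ n)
    {ε : ℤ} (hε : ε = 1 ∨ ε = -1)
    (hall : ∀ h : F[X], h.Monic → h.natDegree = n →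
      (h.coeff 0 = 0 ∨ psi (h.coeff 1 / h.coeff 0) = ε) → Rz Q (h ^ 2)) :
    Fintype.card F ^ n ≤ 2 * Nat.card (ConjClasses (isometryGroup F Q)) := by
  classical
  obtain ⟨A, hA, hA'⟩ := card_good (F := F) hn ε hε
  have h1 := card_le_of_rz Q (A.image fun v => pol v ^ 2) (by
    intro p hp
    obtain ⟨v, hv, rfl⟩ := Finset.mem_image.1 hp
    exact hall _ (pol_monic v) (natDegree_pol v) (hA' v hv))
  rw [Finset.card_image_of_injective _ (pol_sq_injective n)] at h1
  omega

/-- **E3** -/
theorem lower_orth_even {F : Type*} [Field F] [Fintype F] (heven : Even (Fintype.card F)) (n : ℕ)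
    (hn : 2 ≤ n) (a b : F)
    (hab : ∀ z₁ z₂ : F, z₁ ^ 2 + a * z₁ * z₂ + b * z₂ ^ 2 = 0 → z₁ = 0 ∧ z₂ = 0) :
    Fintype.card F ^ n ≤ 2 * Nat.card (ConjClasses ↥(Cfsg.isometryGroup F (Cfsg.quadFormPlus n F))) ∧
    Fintype.card F ^ n ≤
      2 * Nat.card (ConjClasses ↥(Cfsg.isometryGroup F (Cfsg.quadFormMinus (n - 1) F a b))) := by
  classical
  have : CharP F 2 := by
    obtain ⟨p, hp⟩ := CharP.exists F
    have hp' : p.Prime := (CharP.char_is_prime_or_zero F p).resolve_right (CharP.char_ne_zero_of_finite F p)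
    obtain ⟨m, _, hm⟩ := FiniteField.card F p
    have h2 : 2 ∣ p := by
      have : 2 ∣ p ^ (m : ℕ) := by rw [← hm]; exact heven.two_dvd
      exact Nat.prime_two.dvd_of_dvd_pow this
    have h3 : p = 2 := ((Nat.prime_dvd_prime_iff_eq Nat.prime_two hp').1 h2).symm
    exact h3 ▸ hp
  refine ⟨?_, ?_⟩
  · refine card_le_two_mul (quadFormPlus n F) hn (ε := 1) (Or.inl rfl) ?_
    intro h hh hd hs
    refine rz_of_recog (quadFormPlus n F) (Or.inl rfl) ?_ (by simp; omega) hab hh hd (by omega) hs
    intro V _ _ _ _ hV Q' hQ' hg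
    exact exists_plus (by omega) hV Q' hQ' (by rw [hg, one_mul])
  · refine card_le_two_mul (quadFormMinus (n - 1) F a b) hn (ε := -1) (Or.inr rfl) ?_
    intro h hh hd hs
    refine rz_of_recog (quadFormMinus (n - 1) F a b) (Or.inr rfl) ?_ (by simp; omega) hab hh hd
      (by omega) hs
    intro V _ _ _ _ hV Q' hQ' hg
    exact exists_minus (by omega) hV Q' hQ' (by rw [hg, neg_one_mul]) hab

end Cfsg.Agent.H174.CN
end
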