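import Mathlib
import Cfsg.Agent.H174.JordanSum
import Cfsg.Prelude.Def_JordanBlocks
import Cfsg.Prelude.Def_Classical
import Cfsg.Agent.H174.JordanMatrix
set_option linter.all false

-- part: H174/JordanReal
section
/-!
Realizing unipotent Jordan types in isometry groups.

`(f, ε)` : the form `B x y = f x y + ε f y x` and, for `ε = 1`, the quadratic form `f x x`.
-/

set_option autoImplicit false

namespace Cfsg.Agent.H174

open Module

universe u

/-- the data of an isometry `g` of the `ε`-form of `f`. -/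
structure IsIsom {F : Type u} [Field F] (ε : F) {V : Type u} [AddCommGroup V] [Module F V]
    (f : V →ₗ[F] V →ₗ[F] F) (g : V ≃ₗ[F] V) : Prop where
  sep : ∀ x, (∀ y, f x y + ε * f y x = 0) → x = 0
  isom : ∀ x y, f (g x) (g y) + ε * f (g y) (g x) = f x y + ε * f y x
  quad : ε = 1 → ∀ x, f (g x) (g x) = f x x

/-- Jordan type `s` is realized by an isometry of an `ε`-form -/
def Realized (F : Type u) [Field F] (ε : F) (s : Multiset ℕ) : Prop :=
  ∃ (V : Type u) (_ : AddCommGroup V) (_ : Module F V) (f : V →ₗ[F] V →ₗ[F] F) (g : V ≃ₗ[F] V),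
    FiniteDimensional F V ∧ IsIsom ε f g ∧ IsJT (nil g) s

theorem Realized.zero (F : Type u) [Field F] (ε : F) : Realized F ε 0 :=
  ⟨PUnit.{u + 1}, inferInstance, inferInstance, 0, LinearEquiv.refl F PUnit.{u + 1}, inferInstance,
    ⟨fun _ _ => rfl, fun _ _ => rfl, fun _ _ => rfl⟩, IsJT.zero _⟩

/-- the orthogonal sum of two bilinear maps -/
def sumForm {F : Type u} [Field F] {V V' : Type u} [AddCommGroup V] [Module F V] [AddCommGroup V']
    [Module F V'] (f : V →ₗ[F] V →ₗ[F] F) (f' : V' →ₗ[F] V' →ₗ[F] F) :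
    (V × V') →ₗ[F] (V × V') →ₗ[F] F :=
  LinearMap.mk₂ F (fun p q => f p.1 q.1 + f' p.2 q.2)
    (by intro a b c; simp; ring) (by intro a b c; simp; ring) (by intro a b c; simp; ring)
    (by intro a b c; simp; ring)

theorem Realized.add {F : Type u} [Field F] {ε : F} {s s' : Multiset ℕ} (h : Realized F ε s)
    (h' : Realized F ε s') : Realized F ε (s + s') := by
  obtain ⟨V, _, _, f, g, hV, hf, hJ⟩ := h
  obtain ⟨V', _, _, f', g', hV', hf', hJ'⟩ := h'
  refine ⟨V × V', inferInstance, inferInstance, sumForm f f', LinearEquiv.prodCongr g g',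
    inferInstance, ⟨?_, ?_, ?_⟩, ?_⟩
  · rintro ⟨x, x'⟩ hx
    have h1 : x = 0 := hf.sep x fun y => by simpa [sumForm] using hx (y, 0)
    have h2 : x' = 0 := hf'.sep x' fun y => by simpa [sumForm] using hx (0, y)
    rw [h1, h2]; rfl
  · rintro ⟨x, x'⟩ ⟨y, y'⟩
    have h1 := hf.isom x y
    have h2 := hf'.isom x' y'
    simp only [sumForm, LinearMap.mk₂_apply, LinearEquiv.prodCongr_apply]
    linear_combination h1 + h2
  · rintro hε ⟨x, x'⟩
    have h1 := hf.quad hε x
    have h2 := hf'.quad hε x'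
    simp only [sumForm, LinearMap.mk₂_apply, LinearEquiv.prodCongr_apply]
    linear_combination h1 + h2
  · have : nil (LinearEquiv.prodCongr g g') = (nil g).prodMap (nil g') := by
      ext x <;> simp [nil_apply]
    rw [this]
    exact hJ.prod hJ'

theorem Realized.nsmul {F : Type u} [Field F] {ε : F} {s : Multiset ℕ} (h : Realized F ε s) (n : ℕ) :
    Realized F ε (n • s) := by
  induction n with
  | zero => rw [zero_nsmul]; exact Realized.zero F ε
  | succ n ih => rw [succ_nsmul]; exact ih.add h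

/-- a single block of size `i + 1` -/
def Block (F : Type u) [Field F] (ε : F) (i : ℕ) : Prop :=
  ∃ (V : Type u) (_ : AddCommGroup V) (_ : Module F V) (f : V →ₗ[F] V →ₗ[F] F) (g : V ≃ₗ[F] V)
    (x : V), FiniteDimensional F V ∧ IsIsom ε f g ∧ finrank F V = i + 1 ∧
      (∀ v, (nil g ^ (i + 1)) v = 0) ∧
      f ((nil g ^ i) x) x + ε * f x ((nil g ^ i) x) ≠ 0

theorem Block.realized {F : Type u} [Field F] {ε : F} {i : ℕ} (h : Block F ε i) :
    Realized F ε {i + 1} := by
  obtain ⟨V, _, _, f, g, x, hfd, hf, hV, h0, hx⟩ := h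
  refine ⟨V, inferInstance, inferInstance, f, g, hfd, hf, IsJT.single hV x ?_ (h0 x)⟩
  intro h
  apply hx
  rw [h]
  simp

/-- the form on `F × V × F` -/
def stepForm {F : Type u} [Field F] {V : Type u} [AddCommGroup V] [Module F V]
    (f : V →ₗ[F] V →ₗ[F] F) : (F × V × F) →ₗ[F] (F × V × F) →ₗ[F] F :=
  LinearMap.mk₂ F (fun p q => p.1 * q.2.2 + f p.2.1 q.2.1)
    (by intro a b c; simp; ring) (by intro a b c; simp; ring) (by intro a b c; simp; ring)
    (by intro a b c; simp; ring)

/-- the Eichler-type map -/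
def stepMap {F : Type u} [Field F] {V : Type u} [AddCommGroup V] [Module F V] (ε : F)
    (f : V →ₗ[F] V →ₗ[F] F) (g : V ≃ₗ[F] V) (w : V) : (F × V × F) →ₗ[F] (F × V × F) where
  toFun p := (p.1 - (f (g p.2.1) w + ε * f w (g p.2.1)) - f w w * p.2.2, g p.2.1 + p.2.2 • w, p.2.2)
  map_add' p q := by
    ext
    · simp; ring
    · simp [add_smul]; abel
    · simp
  map_smul' c p := by
    ext
    · simp; ring
    · simp [mul_smul]
    · simp

theorem stepMap_injective {F : Type u} [Field F] {V : Type u} [AddCommGroup V] [Module F V] (ε : F)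
    (f : V →ₗ[F] V →ₗ[F] F) (g : V ≃ₗ[F] V) (w : V) : Function.Injective (stepMap ε f g w) := by
  rw [← LinearMap.ker_eq_bot, LinearMap.ker_eq_bot']
  rintro ⟨a, v, b⟩ h
  simp only [stepMap, LinearMap.coe_mk, AddHom.coe_mk, Prod.mk_eq_zero] at h
  obtain ⟨h1, h2, h3⟩ := h
  subst h3
  simp only [zero_smul, add_zero] at h2
  have hv : v = 0 := (LinearEquiv.map_eq_zero_iff g).1 h2
  subst hv
  simp at h1
  rw [h1]; rfl

theorem Block.step {F : Type u} [Field F] {ε : F} (hε : ε * ε = 1) {i : ℕ} (h : Block F ε i) :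
    Block F ε (i + 2) := by
  obtain ⟨V, _, _, f, g, w, hfd, hf, hV, h0, hx⟩ := h
  let g' : (F × V × F) ≃ₗ[F] (F × V × F) :=
    LinearEquiv.ofInjectiveEndo (stepMap ε f g w) (stepMap_injective ε f g w)
  have hg' : ∀ p, g' p = (p.1 - (f (g p.2.1) w + ε * f w (g p.2.1)) - f w w * p.2.2,
      g p.2.1 + p.2.2 • w, p.2.2) := fun p => rfl
  have hnil : ∀ p, nil g' p = (- (f (g p.2.1) w + ε * f w (g p.2.1)) - f w w * p.2.2,
      nil g p.2.1 + p.2.2 • w, 0) := by
    intro p
    rw [nil_apply, hg']
    ext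
    · simp; ring
    · simp [nil_apply]; abel
    · simp
  -- iterates
  have hit : ∀ s p, (nil g' ^ (s + 2)) p =
      (- (f (g ((nil g ^ s) (nil g p.2.1 + p.2.2 • w))) w +
        ε * f w (g ((nil g ^ s) (nil g p.2.1 + p.2.2 • w)))),
        (nil g ^ (s + 1)) (nil g p.2.1 + p.2.2 • w), 0) := by
    intro s
    induction s with
    | zero =>
      intro p
      rw [show (0 + 2) = 1 + 1 by rfl, pow_succ', pow_one, Module.End.mul_apply, hnil (nil g' p), hnil p]
      simp
    | succ s ih =>
      intro p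
      rw [show s + 1 + 2 = (s + 2) + 1 by ring, pow_succ', Module.End.mul_apply, ih, hnil]
      simp only [mul_zero, sub_zero, zero_smul, add_zero]
      rw [← Module.End.mul_apply (nil g), ← pow_succ' (nil g)]
  have hfix : ∀ v, g ((nil g ^ i) v) = (nil g ^ i) v := by
    intro v
    have h1 := h0 v
    rw [pow_succ', Module.End.mul_apply, nil_apply, sub_eq_zero] at h1
    exact h1
  refine ⟨F × V × F, inferInstance, inferInstance, stepForm f, g', (0, 0, 1), inferInstance,
    ⟨?_, ?_, ?_⟩, ?_, ?_, ?_⟩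
  · rintro ⟨a, v, b⟩ h
    have h1 := h (0, 0, 1)
    have h2 := h (1, 0, 0)
    have h3 := fun y => h (0, y, 0)
    simp only [stepForm, LinearMap.mk₂_apply, map_zero, LinearMap.zero_apply] at h1 h2 h3
    have hε0 : ε ≠ 0 := by
      rintro rfl
      simp at hε
    have ha : a = 0 := by simpa using h1
    have hb : b = 0 := by simpa [hε0] using h2
    have hv : v = 0 := hf.sep v fun y => by simpa using h3 y
    rw [ha, hb, hv]; rfl
  · rintro ⟨a, v, b⟩ ⟨a', v', b'⟩
    rw [hg', hg']
    simp only [stepForm, LinearMap.mk₂_apply, map_add, LinearMap.add_apply, map_smul,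
      LinearMap.smul_apply, smul_eq_mul]
    have h1 := hf.isom v v'
    linear_combination h1 - b * (f w (g v')) * hε
  · rintro rfl ⟨a, v, b⟩
    rw [hg']
    simp only [stepForm, LinearMap.mk₂_apply, map_add, LinearMap.add_apply, map_smul,
      LinearMap.smul_apply, smul_eq_mul]
    have h1 := hf.quad rfl v
    linear_combination h1
  · rw [Module.finrank_prod, Module.finrank_prod, hV, Module.finrank_self]
    ring
  · intro p
    rw [show i + 2 + 1 = (i + 1) + 2 by ring, hit, h0]
    rw [show i + 1 + 1 = 1 + (i + 1) by ring, pow_add, Module.End.mul_apply, h0]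
    simp
  · have h1 : (nil g' ^ (i + 2)) ((0, 0, 1) : F × V × F) =
        (-(f ((nil g ^ i) w) w + ε * f w ((nil g ^ i) w)), 0, 0) := by
      rw [hit]
      simp only [map_zero, zero_add, one_smul]
      rw [hfix, h0]
    rw [h1]
    simp only [stepForm, LinearMap.mk₂_apply, map_zero]
    intro h
    apply hx
    simp at h
    linear_combination -h

end Cfsg.Agent.H174
end

-- part: H174/JordanBase
section
/-!
Base cases and pairs; the existence theorems.
-/

set_option autoImplicit false

namespace Cfsg.Agent.H174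

open Module

universe u

theorem block_one_zero (F : Type u) [Field F] (h2 : (2 : F) ≠ 0) : Block F 1 0 := by
  refine ⟨F, inferInstance, inferInstance, LinearMap.mul F F, LinearEquiv.refl F F, 1, inferInstance,
    ⟨?_, ?_, ?_⟩, ?_, ?_, ?_⟩
  · intro x hx
    have := hx 1
    simp only [LinearMap.mul_apply', one_mul, mul_one] at this
    have h3 : 2 * x = 0 := by linear_combination this
    exact (mul_eq_zero.1 h3).resolve_left h2
  · intro x y; rfl
  · intro _ x; rfl
  · simp
  · intro v
    simp [nil_apply]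
  · simp only [pow_zero, Module.End.one_apply, LinearMap.mul_apply', mul_one]
    intro h
    apply h2
    linear_combination h

/-- the form `p.1 q.2` on the plane -/
def planeForm (F : Type u) [Field F] : (F × F) →ₗ[F] (F × F) →ₗ[F] F :=
  LinearMap.mk₂ F (fun p q => p.1 * q.2)
    (by intro a b c; simp; ring) (by intro a b c; simp; ring) (by intro a b c; simp; ring)
    (by intro a b c; simp; ring)

theorem planeForm_sep (F : Type u) [Field F] {ε : F} (hε : ε ≠ 0) (x : F × F)
    (h : ∀ y, planeForm F x y + ε * planeForm F y x = 0) : x = 0 := by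
  obtain ⟨a, b⟩ := x
  have h1 := h (0, 1)
  have h2 := h (1, 0)
  simp only [planeForm, LinearMap.mk₂_apply] at h1 h2
  have ha : a = 0 := by simpa using h1
  have hb : b = 0 := by simpa [hε] using h2
  rw [ha, hb]; rfl

/-- the transvection `(a,b) ↦ (a+b,b)` -/
def transvEquiv (F : Type u) [Field F] : (F × F) ≃ₗ[F] (F × F) where
  toFun p := (p.1 + p.2, p.2)
  invFun p := (p.1 - p.2, p.2)
  left_inv p := by simp
  right_inv p := by simp
  map_add' p q := by ext <;> simp; ring
  map_smul' c p := by ext <;> simp; ring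

theorem block_neg_one (F : Type u) [Field F] (h2 : (2 : F) ≠ 0) : Block F (-1) 1 := by
  have hε : (-1 : F) ≠ 1 := by
    intro h
    apply h2
    linear_combination -h
  have hnil : ∀ p : F × F, nil (transvEquiv F) p = (p.2, 0) := by
    rintro ⟨a, b⟩
    rw [nil_apply]
    change ((a + b, b) : F × F) - (a, b) = (b, 0)
    ext <;> simp
  refine ⟨F × F, inferInstance, inferInstance, planeForm F, transvEquiv F, (0, 1), inferInstance,
    ⟨planeForm_sep F (by simp), ?_, ?_⟩, ?_, ?_, ?_⟩
  · rintro ⟨a, b⟩ ⟨a', b'⟩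
    simp only [planeForm, LinearMap.mk₂_apply, transvEquiv, LinearEquiv.coe_mk, LinearMap.coe_mk,
      AddHom.coe_mk]
    ring
  · intro h; exact absurd h hε
  · simp
  · intro v
    rw [pow_succ, pow_one, Module.End.mul_apply, hnil, hnil]
    rfl
  · rw [pow_one, hnil]
    simp [planeForm]

theorem block_two (F : Type u) [Field F] (h2 : (2 : F) = 0) : Block F 1 1 := by
  have hnil : ∀ p : F × F, nil (LinearEquiv.prodComm F F F) p = (p.2 - p.1, p.1 - p.2) := by
    rintro ⟨a, b⟩
    rw [nil_apply]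
    rfl
  refine ⟨F × F, inferInstance, inferInstance, planeForm F, LinearEquiv.prodComm F F F, (1, 0),
    inferInstance, ⟨planeForm_sep F one_ne_zero, ?_, ?_⟩, ?_, ?_, ?_⟩
  · rintro ⟨a, b⟩ ⟨a', b'⟩
    simp only [planeForm, LinearMap.mk₂_apply, LinearEquiv.prodComm_apply, Prod.swap]
    ring
  · rintro _ ⟨a, b⟩
    simp only [planeForm, LinearMap.mk₂_apply, LinearEquiv.prodComm_apply, Prod.swap]
    ring
  · simp
  · rintro ⟨a, b⟩
    rw [pow_succ, pow_one, Module.End.mul_apply, hnil, hnil]
    ext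
    · simp only [Prod.fst_zero]
      linear_combination (a - b) * h2
    · simp only [Prod.snd_zero]
      linear_combination (b - a) * h2
  · rw [pow_one, hnil]
    simp [planeForm]

/-! ### pairs -/

/-- the hyperbolic form `φ(w')` on `W × W^*` -/
def hypForm {F : Type u} [Field F] (W : Type u) [AddCommGroup W] [Module F W] :
    (W × Dual F W) →ₗ[F] (W × Dual F W) →ₗ[F] F :=
  LinearMap.mk₂ F (fun p q => p.2 q.1)
    (by intro a b c; simp) (by intro a b c; simp) (by intro a b c; simp)
    (by intro a b c; simp)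

/-- the shift -/
def shift (F : Type u) [Field F] (n : ℕ) : (Fin n → F) →ₗ[F] (Fin n → F) where
  toFun v i := if h : 0 < (i : ℕ) then v ⟨i - 1, by omega⟩ else 0
  map_add' v w := by
    ext i
    by_cases h : 0 < (i : ℕ) <;> simp [h]
  map_smul' c v := by
    ext i
    by_cases h : 0 < (i : ℕ) <;> simp [h]

theorem shift_pow (F : Type u) [Field F] (n s : ℕ) (v : Fin n → F) (i : Fin n) :
    (shift F n ^ s) v i = if h : s ≤ (i : ℕ) then v ⟨i - s, by omega⟩ else 0 := by
  induction s generalizing v i with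
  | zero => simp
  | succ s ih =>
    rw [pow_succ, Module.End.mul_apply, ih]
    by_cases h : s + 1 ≤ (i : ℕ)
    · rw [dif_pos (by omega), dif_pos h]
      simp only [shift, LinearMap.coe_mk, AddHom.coe_mk]
      rw [dif_pos (by omega)]
      congr 1
    · rw [dif_neg h]
      by_cases h' : s ≤ (i : ℕ)
      · rw [dif_pos h']
        simp only [shift, LinearMap.coe_mk, AddHom.coe_mk]
        rw [dif_neg (by omega)]
      · rw [dif_neg h']

/-- a linear map `g` with a single Jordan block of size `i + 1` -/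
theorem exists_single (F : Type u) [Field F] (i : ℕ) : ∃ (W : Type u) (_ : AddCommGroup W)
    (_ : Module F W) (g : W ≃ₗ[F] W) (x : W), FiniteDimensional F W ∧ finrank F W = i + 1 ∧
      (nil g ^ i) x ≠ 0 ∧ ∀ v, (nil g ^ (i + 1)) v = 0 := by
  have hinj : Function.Injective
      ((LinearMap.id : (Fin (i + 1) → F) →ₗ[F] (Fin (i + 1) → F)) + shift F (i + 1)) := by
    rw [← LinearMap.ker_eq_bot, LinearMap.ker_eq_bot']
    intro v hv
    have h1 : ∀ j : ℕ, ∀ hj : j < i + 1, v ⟨j, hj⟩ = 0 := by
      intro j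
      induction j with
      | zero =>
        intro hj
        have := congrFun hv ⟨0, hj⟩
        simpa [shift] using this
      | succ j ih =>
        intro hj
        have := congrFun hv ⟨j + 1, hj⟩
        simpa [shift, ih (by omega)] using this
    ext j
    exact h1 j j.2
  have hnil : nil (LinearEquiv.ofInjectiveEndo _ hinj) = shift F (i + 1) := by
    refine LinearMap.ext fun v => ?_
    rw [nil_apply]
    change (v + shift F (i + 1) v) - v = _
    rw [add_sub_cancel_left]
  refine ⟨Fin (i + 1) → F, inferInstance, inferInstance, LinearEquiv.ofInjectiveEndo _ hinj,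
    Pi.single 0 1, inferInstance, by simp, ?_, ?_⟩
  · rw [hnil]
    intro h
    have := congrFun h (Fin.last i)
    rw [shift_pow, dif_pos (by simp)] at this
    have h0 : (⟨(Fin.last i : ℕ) - i, by simp⟩ : Fin (i + 1)) = 0 := by
      ext; simp
    rw [h0, Pi.single_eq_same] at this
    exact one_ne_zero this
  · intro v
    rw [hnil]
    ext j
    rw [shift_pow, dif_neg (by omega)]
    rfl

theorem nil_symm_pow_ne {F : Type u} [Field F] {W : Type u} [AddCommGroup W] [Module F W] (g : W ≃ₗ[F] W)
    (s : ℕ) (x : W) : (nil g.symm ^ s) x = 0 ↔ (nil g ^ s) x = 0 := by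
  have h1 : nil g.symm = (- g.symm.toLinearMap : Module.End F W) * nil g := by
    ext x
    simp [nil_apply]
  have h2 : Commute (- g.symm.toLinearMap : Module.End F W) (nil g) := by
    apply LinearMap.ext
    intro x
    simp [nil_apply]
  rw [h1, h2.mul_pow, Module.End.mul_apply]
  have h3 : Function.Injective (- g.symm.toLinearMap : Module.End F W) := by
    intro a b h
    simpa using h
  have h4 : Function.Injective ((- g.symm.toLinearMap : Module.End F W) ^ s) := by
    rw [Module.End.coe_pow]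
    exact h3.iterate s
  constructor
  · intro h
    apply h4
    rw [h, map_zero]
  · intro h
    rw [h, map_zero]

theorem nil_dual_pow {F : Type u} [Field F] {W : Type u} [AddCommGroup W] [Module F W] (g : W ≃ₗ[F] W)
    (s : ℕ) (φ : Dual F W) (x : W) : (nil g.symm.dualMap ^ s) φ x = φ ((nil g.symm ^ s) x) := by
  induction s generalizing φ x with
  | zero => rfl
  | succ s ih =>
    rw [pow_succ, Module.End.mul_apply, ih, pow_succ', Module.End.mul_apply]
    simp [nil_apply]

theorem realized_pair (F : Type u) [Field F] {ε : F} (hε : ε ≠ 0) (i : ℕ) :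
    Realized F ε ({i + 1} + {i + 1}) := by
  obtain ⟨W, _, _, g, x, hfd, hV, hx, h0⟩ := exists_single F i
  have h1 : (nil g.symm ^ i) x ≠ 0 := fun h => hx ((nil_symm_pow_ne g i x).1 h)
  obtain ⟨φ, hφ⟩ : ∃ φ : Dual F W, φ ((nil g.symm ^ i) x) ≠ 0 := by
    by_contra h
    push Not at h
    exact h1 ((Module.forall_dual_apply_eq_zero_iff F _).1 h)
  refine ⟨W × Dual F W, inferInstance, inferInstance, hypForm W, LinearEquiv.prodCongr g g.symm.dualMap,
    inferInstance, ⟨?_, ?_, ?_⟩, ?_⟩
  · rintro ⟨w, ψ⟩ h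
    have ha : ψ = 0 := by
      ext1 w'
      simpa [hypForm] using h (w', 0)
    have hb : w = 0 := by
      apply (Module.forall_dual_apply_eq_zero_iff F w).1
      intro θ
      simpa [hypForm, hε] using h (0, θ)
    rw [ha, hb]; rfl
  · rintro ⟨w, ψ⟩ ⟨w', ψ'⟩
    simp [hypForm]
  · rintro _ ⟨w, ψ⟩
    simp [hypForm]
  · have hn : nil (LinearEquiv.prodCongr g g.symm.dualMap) =
        (nil g).prodMap (nil (g.symm.dualMap)) := by
      refine LinearMap.ext fun p => ?_
      rfl
    rw [hn]
    apply IsJT.prod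
    · exact IsJT.single hV x hx (h0 x)
    · refine IsJT.single (by rw [Subspace.dual_finrank_eq, hV]) φ ?_ ?_
      · intro h
        apply hφ
        rw [← nil_dual_pow, h]
        rfl
      · ext1 y
        rw [nil_dual_pow, (nil_symm_pow_ne g (i + 1) y).2 (h0 y), map_zero]
        rfl

/-! ### summary -/

theorem block_orth (F : Type u) [Field F] (h2 : (2 : F) ≠ 0) (k : ℕ) : Block F 1 (2 * k) := by
  induction k with
  | zero => exact block_one_zero F h2
  | succ k ih => exact ih.step (by ring)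

theorem block_symp (F : Type u) [Field F] (h2 : (2 : F) ≠ 0) (k : ℕ) : Block F (-1) (2 * k + 1) := by
  induction k with
  | zero => exact block_neg_one F h2
  | succ k ih =>
    have := ih.step (by ring)
    rwa [show 2 * k + 1 + 2 = 2 * (k + 1) + 1 by ring] at this

theorem block_char_two (F : Type u) [Field F] (h2 : (2 : F) = 0) (k : ℕ) : Block F 1 (2 * k + 1) := by
  induction k with
  | zero => exact block_two F h2
  | succ k ih =>
    have := ih.step (by ring)
    rwa [show 2 * k + 1 + 2 = 2 * (k + 1) + 1 by ring] at this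

theorem realized_of (F : Type u) [Field F] {ε : F} (hε : ε ≠ 0) (P : ℕ → Prop)
    (hP : ∀ j, 0 < j → P j → Realized F ε {j}) (s : Multiset ℕ) (h0 : ∀ j ∈ s, 0 < j)
    (h : ∀ j, ¬ P j → 0 < j → Even (s.count j)) : Realized F ε s := by
  classical
  rw [← Multiset.toFinset_sum_count_nsmul_eq s]
  refine Finset.sum_induction _ (fun s => Realized F ε s) (fun _ _ => Realized.add)
    (Realized.zero F ε) ?_
  intro j hj
  have hj0 : 0 < j := h0 j (Multiset.mem_toFinset.1 hj)
  by_cases hjP : P j
  · exact (hP j hj0 hjP).nsmul _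
  · obtain ⟨r, hr⟩ := h j hjP hj0
    rw [hr, add_nsmul, ← nsmul_add]
    obtain ⟨i, rfl⟩ : ∃ i, j = i + 1 := ⟨j - 1, by omega⟩
    exact (realized_pair F hε i).nsmul r

end Cfsg.Agent.H174
end

-- part: H174/JordanClass
section
/-!
Helper results for S2582, S2583, S2584.
-/

set_option autoImplicit false

namespace Cfsg.Agent.H174

open Module

universe u

/-- the matrices of one map in two bases are conjugate -/
theorem isConj_toMatrix {F V : Type*} [Field F] [AddCommGroup V] [Module F V] {ι n : Type*} [Fintype ι]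
    [DecidableEq ι] [Fintype n] [DecidableEq n] (b : Basis ι F V) (c : Basis n F V) (e : ι ≃ n)
    (u : V →ₗ[F] V) :
    IsConj (Matrix.reindex e e (LinearMap.toMatrix b b u)) (LinearMap.toMatrix c c u) := by
  have h1 : Matrix.reindex e e (LinearMap.toMatrix b b u) =
      LinearMap.toMatrix (b.reindex e) (b.reindex e) u := by
    ext i j
    simp [LinearMap.toMatrix_apply]
  rw [h1]
  refine ⟨⟨c.toMatrix (b.reindex e), (b.reindex e).toMatrix c,
    Basis.toMatrix_mul_toMatrix_flip _ _, Basis.toMatrix_mul_toMatrix_flip _ _⟩, ?_⟩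
  change c.toMatrix (b.reindex e) * LinearMap.toMatrix (b.reindex e) (b.reindex e) u =
    LinearMap.toMatrix c c u * c.toMatrix (b.reindex e)
  rw [basis_toMatrix_mul_linearMap_toMatrix, linearMap_toMatrix_mul_basis_toMatrix]

/-- an invertible matrix as a linear equivalence -/
theorem exists_equiv_of_isUnit {F : Type*} [Field F] {n : Type*} [Fintype n] [DecidableEq n]
    {A : Matrix n n F} (hA : IsUnit A) :
    ∃ g : (n → F) ≃ₗ[F] (n → F), (∀ x, g x = A.mulVec x) ∧ nil g = Matrix.toLin' A - LinearMap.id := by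
  obtain ⟨P, rfl⟩ := hA
  refine ⟨Matrix.toLin'OfInv (M := ((P⁻¹ : (Matrix n n F)ˣ) : Matrix n n F))
    (M' := (P : Matrix n n F)) (by simp) (by simp), fun x => rfl, rfl⟩

theorem card_filter_eq_count {t : ℕ} (d : Fin t → ℕ) (j : ℕ) :
    (Finset.univ.filter (fun k : Fin t => d k = j)).card = (Finset.univ.val.map d).count j := by
  rw [Multiset.count_map, Finset.card_def, Finset.filter_val]
  simp only [eq_comm]

/-- the `ε`-form as a bilinear form -/
def epsForm {F : Type u} [Field F] (ε : F) {V : Type u} [AddCommGroup V] [Module F V]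
    (f : V →ₗ[F] V →ₗ[F] F) : LinearMap.BilinForm F V := f + ε • f.flip

theorem epsForm_apply {F : Type u} [Field F] (ε : F) {V : Type u} [AddCommGroup V] [Module F V]
    (f : V →ₗ[F] V →ₗ[F] F) (x y : V) : epsForm ε f x y = f x y + ε * f y x := rfl

/-! ### necessity -/

theorem even_symp {F : Type u} [Field F] {n : Type*} [Fintype n] [DecidableEq n] {t : ℕ} {d : Fin t → ℕ}
    (e : ((k : Fin t) × Fin (d k)) ≃ n) {A : Matrix n n F} (hA : IsUnit A)
    (h : IsConj (Matrix.reindex e e (Cfsg.jordanTypeMatrix d F)) A)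
    {B : LinearMap.BilinForm F (n → F)} (hB : ∀ x y, B (A.mulVec x) (A.mulVec y) = B x y)
    (hnd : B.Nondegenerate) (halt : B.IsAlt) (j : ℕ) (hj : Odd j) :
    Even (Finset.univ.filter (fun k : Fin t => d k = j)).card := by
  obtain ⟨g, hg, hg2⟩ := exists_equiv_of_isUnit hA
  obtain ⟨b, hb⟩ := exists_isJB_of_isConj e h
  rw [← hg2] at hb
  obtain ⟨s, rfl⟩ : ∃ s, j = s + 1 := ⟨j - 1, by have := hj.pos; omega⟩
  have hB' : ∀ x y, B (g x) (g y) = B x y := fun x y => by rw [hg, hg, hB]
  have hs : Even s := by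
    rw [Nat.odd_add_one, Nat.not_odd_iff_even] at hj
    exact hj
  exact even_card hB' hnd s (fun x hx => form_self_symp hB' halt hs x hx) hb

theorem even_orth {F : Type u} [Field F] {n : Type*} [Fintype n] [DecidableEq n] {t : ℕ} {d : Fin t → ℕ}
    (e : ((k : Fin t) × Fin (d k)) ≃ n) {A : Matrix n n F} (hA : IsUnit A)
    (h : IsConj (Matrix.reindex e e (Cfsg.jordanTypeMatrix d F)) A)
    {B : LinearMap.BilinForm F (n → F)} (hB : ∀ x y, B (A.mulVec x) (A.mulVec y) = B x y)
    (hnd : B.Nondegenerate) (hsym : ∀ x y, B x y = B y x) (h2 : (2 : F) ≠ 0) (j : ℕ) (hj0 : 0 < j)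
    (hj : Even j) :
    Even (Finset.univ.filter (fun k : Fin t => d k = j)).card := by
  obtain ⟨g, hg, hg2⟩ := exists_equiv_of_isUnit hA
  obtain ⟨b, hb⟩ := exists_isJB_of_isConj e h
  rw [← hg2] at hb
  obtain ⟨s, rfl⟩ : ∃ s, j = s + 1 := ⟨j - 1, by omega⟩
  have hB' : ∀ x y, B (g x) (g y) = B x y := fun x y => by rw [hg, hg, hB]
  have hs : Odd s := by
    rw [Nat.even_add_one, Nat.not_even_iff_odd] at hj
    exact hj
  exact even_card hB' hnd s (fun x hx => form_self_orth hB' hsym h2 hs x hx) hb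

/-! ### existence -/

theorem realized_symp (F : Type u) [Field F] (h2 : (2 : F) ≠ 0) {t : ℕ} (d : Fin t → ℕ)
    (hd : ∀ k, 1 ≤ d k)
    (h : ∀ j : ℕ, Odd j → Even (Finset.univ.filter (fun k : Fin t => d k = j)).card) :
    Realized F (-1) (Finset.univ.val.map d) := by
  refine realized_of F (by simp) (fun j => Even j) ?_ _ ?_ ?_
  · intro j hj0 hj
    obtain ⟨k, rfl⟩ := hj
    have := (block_symp F h2 (k - 1)).realized
    rwa [show 2 * (k - 1) + 1 + 1 = k + k by omega] at this
  · intro j hj
    obtain ⟨k, _, rfl⟩ := Multiset.mem_map.1 hj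
    exact hd k
  · intro j hj _
    rw [← card_filter_eq_count]
    exact h j (Nat.not_even_iff_odd.1 hj)

theorem realized_char_two (F : Type u) [Field F] (h2 : (2 : F) = 0) {t : ℕ} (d : Fin t → ℕ)
    (hd : ∀ k, 1 ≤ d k)
    (h : ∀ j : ℕ, Odd j → Even (Finset.univ.filter (fun k : Fin t => d k = j)).card) :
    Realized F 1 (Finset.univ.val.map d) := by
  refine realized_of F (by simp) (fun j => Even j) ?_ _ ?_ ?_
  · intro j hj0 hj
    obtain ⟨k, rfl⟩ := hj
    have := (block_char_two F h2 (k - 1)).realized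
    rwa [show 2 * (k - 1) + 1 + 1 = k + k by omega] at this
  · intro j hj
    obtain ⟨k, _, rfl⟩ := Multiset.mem_map.1 hj
    exact hd k
  · intro j hj _
    rw [← card_filter_eq_count]
    exact h j (Nat.not_even_iff_odd.1 hj)

theorem realized_orth (F : Type u) [Field F] (h2 : (2 : F) ≠ 0) {t : ℕ} (d : Fin t → ℕ)
    (hd : ∀ k, 1 ≤ d k)
    (h : ∀ j : ℕ, Even j → 0 < j → Even (Finset.univ.filter (fun k : Fin t => d k = j)).card) :
    Realized F 1 (Finset.univ.val.map d) := by
  refine realized_of F (by simp) (fun j => Odd j) ?_ _ ?_ ?_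
  · intro j hj0 hj
    obtain ⟨k, rfl⟩ := hj
    exact (block_orth F h2 k).realized
  · intro j hj
    obtain ⟨k, _, rfl⟩ := Multiset.mem_map.1 hj
    exact hd k
  · intro j hj hj0
    rw [← card_filter_eq_count]
    exact h j (Nat.not_odd_iff_even.1 hj) hj0

/-- a realized type in an orthogonal group, in matrix form -/
theorem exists_quadratic {F : Type u} [Field F] {n t : ℕ} (d : Fin t → ℕ) (hsum : ∑ k, d k = n)
    (h : Realized F 1 (Finset.univ.val.map d)) :
    ∃ Q : QuadraticForm F (Fin n → F), (QuadraticMap.polarBilin Q).Nondegenerate ∧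
      ∃ e : ((k : Fin t) × Fin (d k)) ≃ Fin n, ∃ A : ↥(Cfsg.isometryGroup F ⇑Q),
        IsConj (Matrix.reindex e e (Cfsg.jordanTypeMatrix d F))
          ((A : Matrix.GeneralLinearGroup (Fin n) F) : Matrix (Fin n) (Fin n) F) := by
  classical
  obtain ⟨V, _, _, f, g, hfd, hf, hJ⟩ := h
  obtain ⟨b, hb⟩ := hJ.exists_basis
  have hcard : Fintype.card ((k : Fin t) × Fin (d k)) = n := by
    rw [Fintype.card_sigma]
    simpa using hsum
  let e : ((k : Fin t) × Fin (d k)) ≃ Fin n := Fintype.equivFinOfCardEq hcard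
  let c : Basis (Fin n) F V := b.reindex e
  let ψ : V ≃ₗ[F] (Fin n → F) := c.equivFun
  let f' : LinearMap.BilinForm F (Fin n → F) := f.compl₁₂ ψ.symm.toLinearMap ψ.symm.toLinearMap
  have hf' : ∀ x y, f' x y = f (ψ.symm x) (ψ.symm y) := fun x y => rfl
  let Q : QuadraticForm F (Fin n → F) := f'.toQuadraticMap
  have hQ : ∀ x, Q x = f (ψ.symm x) (ψ.symm x) := fun x => rfl
  have hpol : ∀ x y, QuadraticMap.polarBilin Q x y = f (ψ.symm x) (ψ.symm y) + f (ψ.symm y) (ψ.symm x) := by
    intro x y
    rw [QuadraticMap.polarBilin_apply_apply, QuadraticMap.polar, hQ, hQ, hQ]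
    simp only [map_add, LinearMap.add_apply]
    ring
  have hsymm : (QuadraticMap.polarBilin Q).IsSymm :=
    ⟨fun x y => by rw [hpol, hpol]; simp [add_comm]⟩
  have hmat : ∀ x, (LinearMap.toMatrix c c g.toLinearMap).mulVec x = ψ (g (ψ.symm x)) := by
    intro x
    have h1 := LinearMap.toMatrix_mulVec_repr c c g.toLinearMap (ψ.symm x)
    have h2 : ((c.repr (ψ.symm x) : Fin n →₀ F) : Fin n → F) = x := by
      change ψ (ψ.symm x) = x
      exact ψ.apply_symm_apply x
    rw [h2] at h1
    exact h1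
  have hmat' : ∀ x, (LinearMap.toMatrix c c g.symm.toLinearMap).mulVec x = ψ (g.symm (ψ.symm x)) := by
    intro x
    have h1 := LinearMap.toMatrix_mulVec_repr c c g.symm.toLinearMap (ψ.symm x)
    have h2 : ((c.repr (ψ.symm x) : Fin n →₀ F) : Fin n → F) = x := by
      change ψ (ψ.symm x) = x
      exact ψ.apply_symm_apply x
    rw [h2] at h1
    exact h1
  let A : Matrix.GeneralLinearGroup (Fin n) F :=
    ⟨LinearMap.toMatrix c c g.toLinearMap, LinearMap.toMatrix c c g.symm.toLinearMap,
      by rw [← LinearMap.toMatrix_comp]; simp, by rw [← LinearMap.toMatrix_comp]; simp⟩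
  refine ⟨Q, ?_, e, ⟨A, ?_⟩, ?_⟩
  · rw [LinearMap.IsRefl.nondegenerate_iff_separatingLeft hsymm.isRefl]
    intro x hx
    have h1 : ψ.symm x = 0 := by
      apply hf.sep
      intro y
      have := hx (ψ y)
      rw [hpol, ψ.symm_apply_apply] at this
      rw [one_mul]
      exact this
    exact (LinearEquiv.map_eq_zero_iff ψ.symm).1 h1
  · intro x _
    change Q ((LinearMap.toMatrix c c g.toLinearMap).mulVec x) = Q x
    rw [hmat, hQ, hQ, ψ.symm_apply_apply]
    exact hf.quad rfl _
  · have h1 : LinearMap.toMatrix b b g.toLinearMap = Cfsg.jordanTypeMatrix d F :=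
      toMatrix_of_isJB hb
    rw [← h1]
    exact isConj_toMatrix b c e _

/-- a realized type in a symplectic group, in matrix form -/
theorem exists_symplectic {F : Type u} [Field F] {m t : ℕ} (d : Fin t → ℕ) (hsum : ∑ k, d k = 2 * m)
    {ε : F} (h : Realized F ε (Finset.univ.val.map d)) (hε : ε = -1) :
    ∃ e : ((k : Fin t) × Fin (d k)) ≃ (Fin m ⊕ Fin m), ∃ A : Matrix.symplecticGroup (Fin m) F,
      IsConj (Matrix.reindex e e (Cfsg.jordanTypeMatrix d F))
        (A : Matrix (Fin m ⊕ Fin m) (Fin m ⊕ Fin m) F) := by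
  classical
  obtain ⟨V, _, _, f, g, hfd, hf, hJ⟩ := h
  obtain ⟨b, hb⟩ := hJ.exists_basis
  have hcard : Fintype.card ((k : Fin t) × Fin (d k)) = 2 * m := by
    rw [Fintype.card_sigma]
    simpa using hsum
  let B := epsForm ε f
  have hBalt : B.IsAlt := by
    intro x
    change epsForm ε f x x = 0
    rw [epsForm_apply, hε]
    ring
  obtain ⟨m', k, c, h1, h2, h3, h4⟩ := Cfsg.Agent.S0752.result B hBalt
  have hk : IsEmpty (Fin k) := by
    constructor
    intro j
    have h5 : c (Sum.inr j) = 0 := hf.sep _ fun y => h4 j y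
    exact c.ne_zero _ h5
  have hk0 : k = 0 := by
    rcases Nat.eq_zero_or_pos k with h | h
    · exact h
    · exact (hk.false ⟨0, h⟩).elim
  subst hk0
  have hdim : Fintype.card ((k : Fin t) × Fin (d k)) = m' + m' := by
    rw [← finrank_eq_card_basis b, finrank_eq_card_basis c]
    simp
  obtain rfl : m' = m := by omega
  let c' : Basis (Fin m' ⊕ Fin m') F V := c.reindex (Equiv.sumEmpty _ _)
  have hc' : ∀ i, c' i = c (Sum.inl i) := fun i => by
    simp [c']
  let e : ((k : Fin t) × Fin (d k)) ≃ (Fin m' ⊕ Fin m') := b.indexEquiv c'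
  have hmat : LinearMap.toMatrix b b g.toLinearMap = Cfsg.jordanTypeMatrix d F := toMatrix_of_isJB hb
  have hJm : LinearMap.BilinForm.toMatrix c' B = - Matrix.J (Fin m') F := by
    ext i j
    rw [LinearMap.BilinForm.toMatrix_apply, hc', hc']
    rcases i with (i | i) <;> rcases j with (j | j)
    · rw [h2]; simp [Matrix.J]
    · rw [h1]; simp [Matrix.J, Matrix.one_apply]
    · rw [← hBalt.neg_eq, h1]
      simp [Matrix.J, Matrix.one_apply, eq_comm]
    · rw [h3]; simp [Matrix.J]
  have hiso : (LinearMap.toMatrix c' c' g.toLinearMap).transpose * Matrix.J (Fin m') F *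
      LinearMap.toMatrix c' c' g.toLinearMap = Matrix.J (Fin m') F := by
    have h5 : LinearMap.BilinForm.comp B g.toLinearMap g.toLinearMap = B := by
      ext x y
      exact hf.isom x y
    have h6 := congrArg (LinearMap.BilinForm.toMatrix c') h5
    rw [LinearMap.BilinForm.toMatrix_comp (b := c') (c := c'), hJm] at h6
    simpa using h6
  refine ⟨e, ⟨LinearMap.toMatrix c' c' g.toLinearMap, ?_⟩, ?_⟩
  · rw [SymplecticGroup.mem_iff']
    exact hiso
  · rw [← hmat]
    exact isConj_toMatrix b c' e _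

end Cfsg.Agent.H174
end
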